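import Groth.Agent.EtPtsLib.Agree
import Groth.Agent.EtPtsLib.Conditions
import Groth.Agent.EtPtsLib.GermEq

/-!
# Loci where sections over étale schemes agree

For sections `s` over `U` and `t` over `V` (both étale over `X`) and a scheme with compatible maps to `U` and
`V`, the open set of its points near which `s` and `t` agree.
-/

set_option autoImplicit false
set_option backward.isDefEq.respectTransparency false
set_option backward.isDefEq.respectTransparency.types false

universe u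
open CategoryTheory CategoryTheory.Limits AlgebraicGeometry Opposite

noncomputable section

namespace Groth.Agent.HensH0

variable {X : Scheme.{u}} (F : EtCoh.Ab X)

theorem exists_geom (W : X.Etale) (p : W.left) :
    ∃ (Ω : Type u) (_ : Field Ω) (_ : IsSepClosed Ω) (ξ : Spec (CommRingCat.of Ω) ⟶ X)
      (l : (Scheme.pointSmallEtale ξ).fiber.obj W), EtPtsLib.liftHom ξ l default = p := by
  obtain ⟨l, hl⟩ := EtPtsLib.exists_lift_geomPt (X := X) p
  exact ⟨_, inferInstance, inferInstance, _, l, hl⟩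

theorem agree_symm {U : X.Etale} {s t : EtCoh.sect F U} {p : U.left} (h : p ∈ EtPtsLib.agree F.obj s t) :
    p ∈ EtPtsLib.agree F.obj t s := by
  obtain ⟨Ω, _, _, ξ, l, rfl⟩ := exists_geom U p
  exact (EtPtsLib.germ_eq_iff_mem_agree _ _ l t s).1 ((EtPtsLib.germ_eq_iff_mem_agree _ _ l s t).2 h).symm

theorem agree_trans {U : X.Etale} {s t r : EtCoh.sect F U} {p : U.left} (h : p ∈ EtPtsLib.agree F.obj s t)
    (h' : p ∈ EtPtsLib.agree F.obj t r) : p ∈ EtPtsLib.agree F.obj s r := by
  obtain ⟨Ω, _, _, ξ, l, rfl⟩ := exists_geom U p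
  exact (EtPtsLib.germ_eq_iff_mem_agree _ _ l s r).1
    (((EtPtsLib.germ_eq_iff_mem_agree _ _ l s t).2 h).trans ((EtPtsLib.germ_eq_iff_mem_agree _ _ l t r).2 h'))

theorem mem_agree_map_iff {U W : X.Etale} (g : W ⟶ U) (s t : EtCoh.sect F U) (p : W.left) :
    p ∈ EtPtsLib.agree F.obj (F.obj.map g.op s) (F.obj.map g.op t) ↔ g.left p ∈ EtPtsLib.agree F.obj s t := by
  obtain ⟨Ω, _, _, ξ, l, rfl⟩ := exists_geom W p
  have hgp : EtPtsLib.liftHom ξ ((Scheme.pointSmallEtale ξ).fiber.map g l) default =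
      g.left (EtPtsLib.liftHom ξ l default) := Scheme.Hom.comp_apply _ _ _
  rw [← hgp, ← EtPtsLib.germ_eq_iff_mem_agree, ← EtPtsLib.germ_eq_iff_mem_agree]
  erw [(Scheme.pointSmallEtale _).toPresheafFiber_w_apply g l F.obj s,
    (Scheme.pointSmallEtale _).toPresheafFiber_w_apply g l F.obj t]

/-- Sections agreeing near every point are equal. -/
theorem eq_of_agree {U : X.Etale} {s t : EtCoh.sect F U} (h : ∀ p : U.left, p ∈ EtPtsLib.agree F.obj s t) :
    s = t := by
  refine EtPtsLib.sect_eq_of_cover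
    ((sheafCompose X.smallEtaleTopology (forget AddCommGrpCat.{u + 1})).obj F) U s t fun p => ?_
  obtain ⟨W, hW⟩ := Set.mem_iUnion.1 (h p)
  obtain ⟨g, hg⟩ := Set.mem_iUnion.1 hW
  obtain ⟨hst, v, hv⟩ := Set.mem_iUnion.1 hg
  exact ⟨W, g, v, hv, hst⟩

/-! ### Pairs -/

variable (U V R : X.Etale)

/-- The product of two étale schemes. -/
def prod2 : X.Etale :=
  haveI : Etale U.hom := U.prop
  haveI : Etale V.hom := V.prop
  Scheme.Etale.mk (pullback.fst U.hom V.hom ≫ U.hom)

/-- The first projection. -/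
def fst2 : prod2 U V ⟶ U := MorphismProperty.Over.homMk (pullback.fst U.hom V.hom) rfl

/-- The second projection. -/
def snd2 : prod2 U V ⟶ V := MorphismProperty.Over.homMk (pullback.snd U.hom V.hom) pullback.condition.symm

variable {U V R}

/-- The pairing of two maps. -/
def lift2 {W : X.Etale} (a : W ⟶ U) (b : W ⟶ V) : W ⟶ prod2 U V :=
  MorphismProperty.Over.homMk
    (pullback.lift a.left b.left ((MorphismProperty.Over.w a).trans (MorphismProperty.Over.w b).symm)) (by
      show pullback.lift _ _ _ ≫ pullback.fst U.hom V.hom ≫ U.hom = W.hom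
      rw [pullback.lift_fst_assoc]
      exact MorphismProperty.Over.w a)

theorem lift2_fst {W : X.Etale} (a : W ⟶ U) (b : W ⟶ V) : lift2 a b ≫ fst2 U V = a :=
  MorphismProperty.Over.Hom.ext (pullback.lift_fst _ _ _)

theorem lift2_snd {W : X.Etale} (a : W ⟶ U) (b : W ⟶ V) : lift2 a b ≫ snd2 U V = b :=
  MorphismProperty.Over.Hom.ext (pullback.lift_snd _ _ _)

variable (s : EtCoh.sect F U) (t : EtCoh.sect F V)

/-- The points of `U ×_X V` near which `s` and `t` agree. -/
def pairAgree : Set (prod2 U V).left :=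
  EtPtsLib.agree F.obj (F.obj.map (fst2 U V).op s) (F.obj.map (snd2 U V).op t)

/-- The points of a scheme over `U` and `V` near which `s` and `t` agree. -/
def locus {Y : Scheme.{u}} (a : Y ⟶ U.left) (b : Y ⟶ V.left) (w : a ≫ U.hom = b ≫ V.hom) : Set Y :=
  pullback.lift a b w ⁻¹' pairAgree F s t

theorem isOpen_pairAgree : IsOpen (pairAgree F s t) := EtPtsLib.isOpen_agree _ _ _

theorem isOpen_locus {Y : Scheme.{u}} (a : Y ⟶ U.left) (b : Y ⟶ V.left) (w : a ≫ U.hom = b ≫ V.hom) :
    IsOpen (locus F s t a b w) :=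
  (isOpen_pairAgree F s t).preimage (pullback.lift a b w).continuous

theorem mem_locus_comp {Y Y' : Scheme.{u}} (h : Y' ⟶ Y) (a : Y ⟶ U.left) (b : Y ⟶ V.left)
    (w : a ≫ U.hom = b ≫ V.hom) (a' : Y' ⟶ U.left) (b' : Y' ⟶ V.left) (w' : a' ≫ U.hom = b' ≫ V.hom)
    (ha : a' = h ≫ a) (hb : b' = h ≫ b) (y : Y') :
    y ∈ locus F s t a' b' w' ↔ h y ∈ locus F s t a b w := by
  subst ha hb
  have : pullback.lift (h ≫ a) (h ≫ b) w' = h ≫ pullback.lift a b w := by
    refine pullback.hom_ext ?_ ?_ <;> simp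
  show pullback.lift (h ≫ a) (h ≫ b) w' y ∈ pairAgree F s t ↔ _
  rw [this, Scheme.Hom.comp_apply]
  rfl

theorem mem_agree_iff_locus {W : X.Etale} (a : W ⟶ U) (b : W ⟶ V) (p : W.left) :
    p ∈ EtPtsLib.agree F.obj (F.obj.map a.op s) (F.obj.map b.op t) ↔
      p ∈ locus F s t a.left b.left ((MorphismProperty.Over.w a).trans (MorphismProperty.Over.w b).symm) := by
  have ha : F.obj.map a.op s = F.obj.map (lift2 a b).op (F.obj.map (fst2 U V).op s) := by
    rw [← Functor.map_comp_apply, ← op_comp, lift2_fst]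
  have hb : F.obj.map b.op t = F.obj.map (lift2 a b).op (F.obj.map (snd2 U V).op t) := by
    rw [← Functor.map_comp_apply, ← op_comp, lift2_snd]
  rw [ha, hb]
  exact mem_agree_map_iff F (lift2 a b) _ _ p

theorem pairAgree_eq_locus (p : (prod2 U V).left) :
    p ∈ pairAgree F s t ↔
      p ∈ locus F s t (pullback.fst U.hom V.hom) (pullback.snd U.hom V.hom) pullback.condition := by
  show p ∈ pairAgree F s t ↔ (pullback.lift (pullback.fst U.hom V.hom) (pullback.snd U.hom V.hom) pullback.condition) p ∈ pairAgree F s t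
  rw [show pullback.lift (pullback.fst U.hom V.hom) (pullback.snd U.hom V.hom) pullback.condition = 𝟙 _ from
    pullback.hom_ext (by simp) (by simp)]
  rfl

variable (r : EtCoh.sect F R)

theorem locus_symm {Y : Scheme.{u}} (a : Y ⟶ U.left) (b : Y ⟶ V.left) (w : a ≫ U.hom = b ≫ V.hom) (y : Y)
    (h : y ∈ locus F s t a b w) : y ∈ locus F t s b a w.symm := by
  let W := prod2 U V
  let e : Y ⟶ W.left := pullback.lift a b w
  have h1 : e y ∈ EtPtsLib.agree F.obj (F.obj.map (fst2 U V).op s) (F.obj.map (snd2 U V).op t) := h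
  have h2 := (mem_agree_iff_locus F t s (snd2 U V) (fst2 U V) (e y)).1 (agree_symm F h1)
  exact (mem_locus_comp F t s e _ _ _ b a w.symm (pullback.lift_snd _ _ _).symm (pullback.lift_fst _ _ _).symm y).2 h2

theorem locus_trans {Y : Scheme.{u}} (a : Y ⟶ U.left) (b : Y ⟶ V.left) (c : Y ⟶ R.left)
    (w : a ≫ U.hom = b ≫ V.hom) (w' : b ≫ V.hom = c ≫ R.hom) (y : Y)
    (h : y ∈ locus F s t a b w) (h' : y ∈ locus F t r b c w') : y ∈ locus F s r a c (w.trans w') := by
  let W := prod2 (prod2 U V) R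
  let α : W ⟶ U := fst2 _ _ ≫ fst2 U V
  let β : W ⟶ V := fst2 _ _ ≫ snd2 U V
  let γ : W ⟶ R := snd2 _ _
  let e : Y ⟶ W.left := pullback.lift (pullback.lift a b w) c (by
    show _ ≫ pullback.fst U.hom V.hom ≫ U.hom = _
    rw [pullback.lift_fst_assoc, w, w'])
  have ea : a = e ≫ α.left := by
    show a = e ≫ pullback.fst _ _ ≫ pullback.fst U.hom V.hom
    simp [e]
  have eb : b = e ≫ β.left := by
    show b = e ≫ pullback.fst _ _ ≫ pullback.snd U.hom V.hom
    simp [e]
  have ec : c = e ≫ γ.left := by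
    show c = e ≫ pullback.snd _ _
    simp [e]
  have h1 := (mem_agree_iff_locus F s t α β (e y)).2 ((mem_locus_comp F s t e _ _ _ a b w ea eb y).1 h)
  have h2 := (mem_agree_iff_locus F t r β γ (e y)).2 ((mem_locus_comp F t r e _ _ _ b c w' eb ec y).1 h')
  exact (mem_locus_comp F s r e _ _ _ a c _ ea ec y).2 ((mem_agree_iff_locus F s r α γ (e y)).1 (agree_trans F h1 h2))

end Groth.Agent.HensH0
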