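import Groth.Agent.QFinEtDesc.ProperBC

/-!
# Connectedness of the closed part of irreducible schemes integral over a proper scheme

Over a henselian pair `(A, I)`, let `X → Spec A` be proper and `π : X' → X` integral. An irreducible
closed subset of `X'` meets the closed part in a connected set: two closed pieces are separated in a
finite `X`-scheme, to which the lifting of clopens applies.
-/

set_option autoImplicit false
set_option linter.style.haveILetI false
set_option backward.isDefEq.respectTransparency false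
set_option backward.isDefEq.respectTransparency.types false

universe u
open CategoryTheory CategoryTheory.Limits AlgebraicGeometry TopologicalSpace

noncomputable section

namespace Groth.Agent.HensH0

/-- Disjoint closed subsets of an affine open are separated by one function. -/
theorem exists_separating_section {X : Scheme.{u}} {W : X.Opens} (hW : IsAffineOpen W) {C D : Set X}
    (hC : IsClosed C) (hD : IsClosed D) (hCD : Disjoint C D) :
    ∃ b : Γ(X, W), (∀ x ∈ C, x ∉ X.basicOpen b) ∧ ∀ x ∈ D, x ∈ W → x ∈ X.basicOpen b := by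
  obtain ⟨I, hI⟩ := (PrimeSpectrum.isClosed_iff_zeroLocus_ideal _).1 (hC.preimage hW.fromSpec.continuous)
  obtain ⟨J, hJ⟩ := (PrimeSpectrum.isClosed_iff_zeroLocus_ideal _).1 (hD.preimage hW.fromSpec.continuous)
  have htop : I ⊔ J = ⊤ := by
    by_contra h
    obtain ⟨m, hm, hle⟩ := Ideal.exists_le_maximal _ h
    let p : Spec Γ(X, W) := (⟨m, hm.isPrime⟩ : PrimeSpectrum Γ(X, W))
    have h1 : p ∈ hW.fromSpec ⁻¹' C := hI.ge ((SetLike.coe_subset_coe.2 (le_sup_left.trans hle)) :)
    have h2 : p ∈ hW.fromSpec ⁻¹' D := hJ.ge ((SetLike.coe_subset_coe.2 (le_sup_right.trans hle)) :)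
    exact Set.disjoint_left.1 hCD h1 h2
  obtain ⟨a, ha, b, hb, hab⟩ := Submodule.mem_sup.1 (htop ▸ Submodule.mem_top : (1 : Γ(X, W)) ∈ I ⊔ J)
  have key : ∀ p : Spec Γ(X, W), hW.fromSpec p ∈ X.basicOpen a ↔ a ∉ p.asIdeal := fun p => by
    rw [← Scheme.Hom.mem_preimage, hW.fromSpec_preimage_basicOpen]
    exact PrimeSpectrum.mem_basicOpen a p
  refine ⟨a, fun x hx hxa => ?_, fun x hx hxW => ?_⟩
  · obtain ⟨p, rfl⟩ : x ∈ Set.range hW.fromSpec := hW.range_fromSpec.ge (X.basicOpen_le a hxa)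
    exact (key p).1 hxa ((hI.le hx : p ∈ PrimeSpectrum.zeroLocus (I : Set Γ(X, W))) ha)
  · obtain ⟨p, rfl⟩ : x ∈ Set.range hW.fromSpec := hW.range_fromSpec.ge hxW
    refine (key p).2 fun h => p.isPrime.ne_top ((Ideal.eq_top_iff_one _).2 ?_)
    rw [← hab]
    exact p.asIdeal.add_mem h ((hJ.le hx : p ∈ PrimeSpectrum.zeroLocus (J : Set Γ(X, W))) hb)

/-- Disjoint closed subsets of a scheme integral over a quasi-compact quasi-separated `X` have disjoint
images in a separated `X`-scheme of finite type, affine over `X`. -/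
theorem exists_separating {X X' : Scheme.{u}} [CompactSpace X] [QuasiSeparatedSpace X] (π : X' ⟶ X)
    [IsIntegralHom π] {C D : Set X'} (hC : IsClosed C) (hD : IsClosed D) (hCD : Disjoint C D) :
    ∃ (T : Scheme.{u}) (q : X' ⟶ T) (g : T ⟶ X), IsAffineHom g ∧ LocallyOfFiniteType g ∧ q ≫ g = π ∧
      ∀ x ∈ C, ∀ y ∈ D, q x ≠ q y := by
  classical
  have hcov : ∀ x : X, ∃ V : X.affineOpens, x ∈ V.1 := fun x => by
    obtain ⟨V, hV, hx, -⟩ := exists_isAffineOpen_mem_and_subset (X := X) (x := x) (U := ⊤) trivial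
    exact ⟨⟨V, hV⟩, hx⟩
  choose V hV using hcov
  obtain ⟨t, ht⟩ := isCompact_univ.elim_finite_subcover (fun x => ((V x).1 : Set X)) (fun x => (V x).1.isOpen)
    fun x _ => Set.mem_iUnion.2 ⟨x, hV x⟩
  choose b hbC hbD using fun x : t => exists_separating_section ((V x.1).2.preimage π) hC hD hCD
  let F := RelSpec.QCAlg.directImage π
  haveI : Coh.IsQCoh F.toModule := ProjBundleLib.isQCoh_toModule F
  obtain ⟨E, i, hE, hfp, hmem⟩ := FPApproxLib.exists_fp_through F.toModule (ι := t) (fun x => (V x.1).1)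
    (fun x => (V x.1).2) b
  haveI := hE
  obtain ⟨ψ, hψ, -⟩ := RelSpecLib.isSymAlg_symAlg E F i
  let A := RelSpecLib.symAlg E
  let q := RelSpecLib.lift A π ψ.hom
  have hq : q ≫ A.π = π := RelSpecLib.lift_π A π ψ.hom ψ.comm
  haveI := FPApproxLib.lfp_π_symAlg E hfp
  haveI : IsAffineHom A.π := ⟨fun U hU => RelSpecLib.isAffineOpen_preimage A U hU⟩
  refine ⟨A.spec, q, A.π, inferInstance, inferInstance, hq, fun x hx y hy hxy => ?_⟩
  have hπ : π x = π y := by rw [← hq, Scheme.Hom.comp_apply, Scheme.Hom.comp_apply, hxy]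
  obtain ⟨z, hz, hxz⟩ := Set.mem_iUnion₂.1 (ht (Set.mem_univ (π x)))
  let W : t := ⟨z, hz⟩
  obtain ⟨m, hm⟩ := hmem W
  haveI := SpecQCAlg.isIso_gammaAff A (V z).1 (V z).2
  have h := RelSpecLib.gammaAff_algMap A π q hq (V z).1 (V z).2
  rw [show RelSpecLib.algMap A π q hq = ψ.hom from RelSpecLib.algMap_lift A π ψ.hom ψ.comm] at h
  obtain ⟨σ, hσ⟩ := (ConcreteCategory.bijective_of_isIso (A.gammaAff (V z).1 (V z).2)).2
    (RelSpecLib.jsec A (RelSpecLib.symJ E) m)
  have hle : π ⁻¹ᵁ (V z).1 ≤ q ⁻¹ᵁ (A.π ⁻¹ᵁ (V z).1) := by rw [← Scheme.Hom.comp_preimage, hq]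
  have hb : (q.appLE (A.π ⁻¹ᵁ (V z).1) (π ⁻¹ᵁ (V z).1) hle).hom σ = b W := by
    rw [← hm, ← h, CommRingCat.comp_apply]
    erw [hσ]
    exact congrArg (fun k : E ⟶ F.toModule => k.app (V z).1 m) hψ
  have hpre : X'.basicOpen (b W) = π ⁻¹ᵁ (V z).1 ⊓ q ⁻¹ᵁ A.spec.basicOpen σ := by
    rw [← hb, Scheme.basicOpen_appLE, Scheme.preimage_basicOpen]
  refine hbC W x hx ?_
  rw [hpre]
  have hyW : y ∈ X'.basicOpen (b W) := hbD W y hy (show π y ∈ (V z).1 from hπ ▸ hxz)
  rw [hpre] at hyW
  exact ⟨hxz, show q x ∈ A.spec.basicOpen σ from hxy.symm ▸ hyW.2⟩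

/-- Over a henselian pair, an irreducible closed subset of a scheme integral over a proper scheme meets
the closed part in a preconnected set. -/
theorem isPreconnected_closure_inter {A : Type u} [CommRing A] (I : Ideal A) [HenselianRing A I]
    {X : Scheme.{u}} (f : X ⟶ Spec (CommRingCat.of A)) [IsProper f] {X' : Scheme.{u}} (π : X' ⟶ X)
    [IsIntegralHom π] (x : X') :
    _root_.IsPreconnected (closure {x} ∩ π ⁻¹' Set.range
      (pullback.fst f (Spec.map (CommRingCat.ofHom (Ideal.Quotient.mk I))))) := by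
  let j := Spec.map (CommRingCat.ofHom (Ideal.Quotient.mk I))
  haveI : IsClosedImmersion j := IsClosedImmersion.spec_of_surjective _ Ideal.Quotient.mk_surjective
  haveI : IsClosedImmersion (pullback.fst f j) := MorphismProperty.pullback_fst _ _ inferInstance
  haveI : CompactSpace ↥X := QuasiCompact.compactSpace_of_compactSpace f
  haveI : QuasiSeparatedSpace ↥X := quasiSeparatedSpace_of_quasiSeparated f
  let Z : Set X := Set.range (pullback.fst f j)
  have hZ : IsClosed Z := (pullback.fst f j).isClosedEmbedding.isClosed_range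
  let Y : Set X' := closure {x} ∩ π ⁻¹' Z
  have hY : IsClosed Y := isClosed_closure.inter (hZ.preimage π.continuous)
  show _root_.IsPreconnected Y
  refine (isPreconnected_iff_subset_of_fully_disjoint_closed hY).2 fun C D hC hD hYCD hCD => ?_
  obtain ⟨T, q, g, hg, hgft, hqg, hsep⟩ := exists_separating π (hC.inter hY) (hD.inter hY)
    (hCD.mono Set.inter_subset_left Set.inter_subset_left)
  haveI := hg; haveI := hgft
  haveI : IsIntegralHom q := by
    haveI : IsIntegralHom (q ≫ g) := hqg ▸ inferInstance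
    exact MorphismProperty.of_postcomp (W := @IsIntegralHom) (W' := @IsSeparated) q g inferInstance inferInstance
  -- the closure of the image of `x`, with its reduced structure, is proper over `A`
  let c : Closeds T := ⟨closure {q x}, isClosed_closure⟩
  let T' := (Scheme.IdealSheafData.vanishingIdeal c).subscheme
  let ι : T' ⟶ T := (Scheme.IdealSheafData.vanishingIdeal c).subschemeι
  have hι : Set.range ι = closure {q x} := by
    rw [Scheme.IdealSheafData.range_subschemeι, Scheme.IdealSheafData.coe_support_vanishingIdeal,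
      ← Scheme.IdealSheafData.coe_support_vanishingIdeal]
    exact (Scheme.IdealSheafData.coe_support_vanishingIdeal c)
  have hqY : q '' closure {x} = closure {q x} := by
    rw [← q.isClosedMap.closure_image_eq_of_continuous q.continuous, Set.image_singleton]
  haveI : UniversallyClosed (ι ≫ g) := by
    let q' := pullback.snd q ι
    haveI : Surjective q' := ⟨fun t => by
      obtain ⟨y, -, hy⟩ := hqY.ge (hι.le ⟨t, rfl⟩)
      obtain ⟨p, -, hp⟩ := Scheme.Pullback.exists_preimage_pullback (f := q) (g := ι) y t hy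
      exact ⟨p, hp⟩⟩
    haveI : UniversallyClosed (q' ≫ ι ≫ g) := by
      rw [← Category.assoc, ← pullback.condition, Category.assoc, hqg]
      infer_instance
    exact UniversallyClosed.of_comp_surjective q' (ι ≫ g)
  haveI : IsProper (ι ≫ g) := {}
  haveI : IsProper ((ι ≫ g) ≫ f) := inferInstance
  let f' := (ι ≫ g) ≫ f
  let k := pullback.fst f' j
  haveI : IsClosedImmersion k := MorphismProperty.pullback_fst _ _ inferInstance
  have hk : Set.range k = ι ⁻¹' (g ⁻¹' Z) := by
    rw [Scheme.Pullback.range_fst]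
    show f' ⁻¹' Set.range j = ι ⁻¹' (g ⁻¹' Set.range (pullback.fst f j))
    rw [Scheme.Pullback.range_fst]
    ext t
    simp [f']
  have himg : ∀ y ∈ Y, q y ∈ closure {q x} ∧ g (q y) ∈ Z := fun y hy =>
    ⟨hqY.le ⟨y, hy.1, rfl⟩, by rw [← Scheme.Hom.comp_apply, hqg]; exact hy.2⟩
  have hlift : ∀ p, ∃ y ∈ Y, q y = ι (k p) := fun p => by
    obtain ⟨y, hy, hqy⟩ := hqY.ge (hι.le ⟨k p, rfl⟩)
    refine ⟨y, ⟨hy, ?_⟩, hqy⟩
    show π y ∈ Z
    rw [← hqg, Scheme.Hom.comp_apply, hqy]
    exact hk.le ⟨p, rfl⟩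
  -- the two pieces
  let C₁ := (k ≫ ι) ⁻¹' (q '' (C ∩ Y))
  let D₁ := (k ≫ ι) ⁻¹' (q '' (D ∩ Y))
  have hC₁ : IsClosed C₁ := (q.isClosedMap _ (hC.inter hY)).preimage (k ≫ ι).continuous
  have hD₁ : IsClosed D₁ := (q.isClosedMap _ (hD.inter hY)).preimage (k ≫ ι).continuous
  have hcompl : C₁ᶜ = D₁ := by
    ext p
    refine ⟨fun hp => ?_, ?_⟩
    · obtain ⟨y, hy, hqy⟩ := hlift p
      rcases hYCD hy with h | h
      · exact absurd ⟨y, ⟨h, hy⟩, hqy⟩ hp
      · exact ⟨y, ⟨h, hy⟩, hqy⟩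
    · rintro ⟨y, hy, hqy⟩ ⟨y', hy', hqy'⟩
      exact hsep y' hy' y hy (hqy'.trans hqy.symm)
  obtain ⟨W, hW, hWC⟩ := QFinEtDesc.exists_clopen_lift I f' C₁
    ⟨hC₁, isClosed_compl_iff.1 (hcompl ▸ hD₁)⟩
  change k ⁻¹' W = C₁ at hWC
  haveI : PreconnectedSpace T' := ⟨by
    rw [← ι.isClosedEmbedding.isInducing.isPreconnected_image, Set.image_univ, hι]
    exact isPreconnected_singleton.closure⟩
  rcases isClopen_iff.1 hW with hW' | hW'
  · refine Or.inr fun y hy => ?_
    obtain ⟨t, ht⟩ := hι.ge (himg y hy).1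
    obtain ⟨p, rfl⟩ : t ∈ Set.range k := hk.ge (show g (ι t) ∈ Z from ht ▸ (himg y hy).2)
    refine (hYCD hy).resolve_left fun hyC => ?_
    have : p ∈ C₁ := ⟨y, ⟨hyC, hy⟩, ht.symm⟩
    rw [← hWC, hW'] at this
    exact this
  · refine Or.inl fun y hy => ?_
    obtain ⟨t, ht⟩ := hι.ge (himg y hy).1
    obtain ⟨p, rfl⟩ : t ∈ Set.range k := hk.ge (show g (ι t) ∈ Z from ht ▸ (himg y hy).2)
    refine (hYCD hy).resolve_right fun hyD => ?_
    have : p ∈ C₁ := by rw [← hWC, hW']; trivial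
    exact (hcompl.ge (show p ∈ D₁ from ⟨y, ⟨hyD, hy⟩, ht.symm⟩)) this

end Groth.Agent.HensH0
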