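import Groth.Agent.HensH0.Unit
import Groth.Agent.HensH0.Conn

/-!
# Global sections over henselian couples
-/

set_option autoImplicit false
set_option linter.style.haveILetI false
set_option backward.isDefEq.respectTransparency false
set_option backward.isDefEq.respectTransparency.types false

universe u
open CategoryTheory CategoryTheory.Limits AlgebraicGeometry Opposite

noncomputable section

namespace Groth.Agent.HensH0

variable {A : Type u} [CommRing A] (I : Ideal A) [HenselianRing A I] {X : Scheme.{u}}
  (f : X ⟶ Spec (CommRingCat.of A))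

theorem range_fst_eq :
    Set.range (pullback.fst f (Spec.map (CommRingCat.ofHom (Ideal.Quotient.mk I)))) =
      f ⁻¹' PrimeSpectrum.zeroLocus (I : Set A) := by
  rw [Scheme.Pullback.range_fst]
  congr 1
  exact (range_comap_of_surjective _ _ Ideal.Quotient.mk_surjective).trans (by rw [Ideal.mk_ker])

/-- Nonempty closed subsets of a universally closed scheme over a henselian pair meet the closed part. -/
theorem nonempty_inter [UniversallyClosed f] (C : Set X) (hC : IsClosed C) (hne : C.Nonempty) :
    (C ∩ Set.range (pullback.fst f (Spec.map (CommRingCat.ofHom (Ideal.Quotient.mk I))))).Nonempty := by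
  obtain ⟨c, hc⟩ := hne
  obtain ⟨m, hm, hle⟩ := Ideal.exists_le_maximal (f c).asIdeal (f c).isPrime.ne_top
  let p : Spec (CommRingCat.of A) := (⟨m, hm.isPrime⟩ : PrimeSpectrum A)
  have hp : p ∈ f '' C := by
    refine Specializes.mem_closed ?_ (f.isClosedMap _ hC) ⟨c, hc, rfl⟩
    exact (PrimeSpectrum.le_iff_specializes (f c) p).1 hle
  obtain ⟨c', hc', hcp⟩ := hp
  refine ⟨c', hc', ?_⟩
  rw [range_fst_eq, Set.mem_preimage, hcp]
  exact SetLike.coe_subset_coe.2 ((HenselianRing.jac (I := I)).trans
    (sInf_le ⟨bot_le, hm⟩))

/-- Sections on a proper scheme over a henselian pair are sections on the closed part. -/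
theorem bijective_unit_top [IsProper f] (F : EtCoh.Ab X) :
    Function.Bijective
      (((EtCoh.pullPushAdj (pullback.fst f (Spec.map (CommRingCat.ofHom (Ideal.Quotient.mk I))))).unit.app F).hom.app
        (op (EtCoh.top X))) := by
  let j := Spec.map (CommRingCat.ofHom (Ideal.Quotient.mk I))
  haveI : IsClosedImmersion j := IsClosedImmersion.spec_of_surjective _ Ideal.Quotient.mk_surjective
  haveI : IsClosedImmersion (pullback.fst f j) := MorphismProperty.pullback_fst _ _ inferInstance
  haveI : CompactSpace ↥X := QuasiCompact.compactSpace_of_compactSpace f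
  haveI : QuasiSeparatedSpace ↥X := quasiSeparatedSpace_of_quasiSeparated f
  exact bijective_top (pullback.fst f j).isClosedEmbedding.isClosed_range (fun C hC hne => nonempty_inter I f C hC hne)
    (fun π _ x => isPreconnected_closure_inter I f π x) (injNear_unit _ F) (surjNear_unit _ F)

/-- Sections on the spectrum of a henselian pair are sections on the closed part. -/
theorem bijective_unit_top_spec (F : EtCoh.Ab (Spec (CommRingCat.of A))) :
    Function.Bijective
      (((EtCoh.pullPushAdj (Spec.map (CommRingCat.ofHom (Ideal.Quotient.mk I)))).unit.app F).hom.app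
        (op (EtCoh.top (Spec (CommRingCat.of A))))) := by
  let j := Spec.map (CommRingCat.ofHom (Ideal.Quotient.mk I))
  haveI : IsClosedImmersion j := IsClosedImmersion.spec_of_surjective _ Ideal.Quotient.mk_surjective
  have hr : Set.range j = Set.range (pullback.fst (𝟙 (Spec (CommRingCat.of A))) j) := by
    rw [Scheme.Pullback.range_fst]; rfl
  refine bijective_top j.isClosedEmbedding.isClosed_range (fun C hC hne => ?_) (fun π _ x => ?_)
    (injNear_unit _ F) (surjNear_unit _ F)
  · rw [hr]; exact nonempty_inter I (𝟙 _) C hC hne
  · rw [hr]; exact isPreconnected_closure_inter I (𝟙 _) π x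

end Groth.Agent.HensH0
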