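import Groth.Agent.HensH0.FEt
import Groth.Agent.HensH0.Proper
import Groth.Agent.EtPtsLib.UnitMono
import Groth.Agent.EtPtsLib.IntegralBCIso
import Groth.Agent.S0101
import Groth.Agent.S6634
import Mathlib.Algebra.Homology.DerivedCategory.Ext.Map
import Mathlib.Algebra.Homology.DerivedCategory.Ext.ExtClass
import Mathlib.RingTheory.Unramified.Finite

/-!
# Cohomology of henselian local schemes

Over a field, every class of positive degree dies on a finite etale cover; lifting the cover to the henselian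
local ring shows that restriction to the closed point turns injective sheaves into acyclic ones.
-/

set_option autoImplicit false
set_option linter.style.haveILetI false
set_option backward.isDefEq.respectTransparency false
set_option backward.isDefEq.respectTransparency.types false

universe u
open CategoryTheory CategoryTheory.Limits AlgebraicGeometry Opposite Abelian

noncomputable section

namespace Groth.Agent.HensH0

theorem preservesFiniteColimits_push {X Y : Scheme.{u}} (f : X ⟶ Y) [IsIntegralHom f] :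
    PreservesFiniteColimits (EtCoh.push f) := by
  haveI : (EtCoh.push f).PreservesEpimorphisms := Groth.Agent.S6634.result f
  haveI : (EtCoh.push f).IsRightAdjoint := (EtCoh.pullPushAdj f).isRightAdjoint
  haveI : (EtCoh.push f).PreservesHomology := Functor.preservesHomology_of_preservesEpis_and_kernels _
  exact Functor.preservesFiniteColimits_of_preservesHomology _

theorem preservesFiniteLimits_push {X Y : Scheme.{u}} (f : X ⟶ Y) : PreservesFiniteLimits (EtCoh.push f) :=
  haveI : (EtCoh.push f).IsRightAdjoint := (EtCoh.pullPushAdj f).isRightAdjoint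
  inferInstance

section Field

variable {k : Type u} [Field k]

/-- A class is killed by all finite covers dominating `p`. -/
def KilledOn {W : Scheme.{u}} (p : W ⟶ Spec (CommRingCat.of k)) (G : EtCoh.Ab (Spec (CommRingCat.of k))) {n : ℕ}
    (ξ : EtCoh.H (Spec (CommRingCat.of k)) G n) : Prop :=
  ∀ (W' : Scheme.{u}) (p' : W' ⟶ Spec (CommRingCat.of k)) [IsFinite p'] (e : W' ⟶ W), e ≫ p = p' →
    Sheaf.H.map ((EtCoh.pullPushAdj p').unit.app G) n ξ = 0

/-- Near each point an étale scheme over a field is finite. -/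
theorem exists_isFinite_open (V : (Spec (CommRingCat.of k)).Etale) (v : V.left) :
    ∃ U : V.left.Opens, v ∈ U ∧ IsFinite (U.ι ≫ V.hom) ∧ Etale (U.ι ≫ V.hom) := by
  haveI : Etale V.hom := V.prop
  obtain ⟨U, hU, hvU, -⟩ :=
    V.left.isBasis_affineOpens.exists_subset_of_mem_open (Set.mem_univ v) isOpen_univ
  obtain ⟨U₀, hU', rfl⟩ := hU
  let U : V.left.Opens := U₀
  refine ⟨U, hvU, ?_, inferInstance⟩
  haveI : IsAffine U.toScheme := hU'
  let w := U.ι ≫ V.hom
  let φ := Spec.preimage (U.toScheme.isoSpec.inv ≫ w)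
  have hφ : Spec.map φ = U.toScheme.isoSpec.inv ≫ w := Spec.map_preimage _
  let C : Type u := Γ(U.toScheme, ⊤)
  letI : Algebra k C := φ.hom.toAlgebra
  haveI : Algebra.Etale k C :=
    RingHom.etale_algebraMap.1 ((HasRingHomProperty.Spec_iff (P := @Etale) (φ := φ)).1 (hφ ▸ inferInstance))
  haveI : Module.Finite k C := Algebra.FormallyUnramified.finite_of_free k C
  haveI : IsFinite (Spec.map φ) := (IsFinite.SpecMap_iff φ).2 (RingHom.finite_algebraMap.2 inferInstance)
  have hw : w = U.toScheme.isoSpec.hom ≫ Spec.map φ := by rw [hφ, Iso.hom_inv_id_assoc]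
  show IsFinite w
  rw [hw]
  infer_instance

theorem exists_killedOn_one {G : EtCoh.Ab (Spec (CommRingCat.of k))} (ξ : EtCoh.H (Spec (CommRingCat.of k)) G 1) :
    ∃ (W : Scheme.{u}) (p : W ⟶ Spec (CommRingCat.of k)), IsFinite p ∧ Etale p ∧ Surjective p ∧ KilledOn p G ξ := by
  let S := Spec (CommRingCat.of k)
  let P : ShortComplex (EtCoh.Ab S) := ShortComplex.mk (Injective.ι G) (cokernel.π _) (cokernel.condition _)
  have hP : P.ShortExact := { exact := ShortComplex.exact_cokernel (Injective.ι G), mono_f := Injective.ι_mono G }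
  obtain ⟨y, hy⟩ := Ext.covariant_sequence_exact₁ _ hP ξ (Ext.eq_zero_of_injective _) (zero_add 1)
  let hT := EtCore.topIsTerminal S
  let s : P.X₃.obj.obj (op (EtCoh.top S)) := Sheaf.H.equiv₀ P.X₃ hT y
  haveI : Epi P.g := hP.epi_g
  haveI : Presheaf.IsLocallySurjective S.smallEtaleTopology P.g.hom :=
    (Sheaf.isLocallySurjective_iff_epi' AddCommGrpCat.{u + 1} P.g).2 inferInstance
  have hcov := Presheaf.imageSieve_mem S.smallEtaleTopology P.g.hom (U := op (EtCoh.top S)) s
  obtain ⟨α, T, a, heq⟩ := (Presheaf.imageSieve P.g.hom s).exists_eq_ofArrows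
  rw [heq, Scheme.ofArrows_mem_smallEtaleTopology_iff] at hcov
  have hx : ((IsLocalRing.closedPoint k : PrimeSpectrum k) : S) ∈ (Set.univ : Set S) := trivial
  rw [← hcov] at hx
  obtain ⟨i, v, -⟩ := Set.mem_iUnion.1 hx
  obtain ⟨t, ht⟩ : ∃ t, P.g.hom.app (op (T i)) t = P.X₃.obj.map (a i).op s := by
    have h : (Presheaf.imageSieve P.g.hom s).arrows (a i) := by rw [heq]; exact Sieve.ofArrows_mk _ _ i
    exact h
  obtain ⟨U, hvU, hfin, het⟩ := exists_isFinite_open (T i) v
  refine ⟨U.toScheme, U.ι ≫ (T i).hom, hfin, het, ⟨fun z => ⟨⟨v, hvU⟩, Subsingleton.elim (α := PrimeSpectrum k) _ _⟩⟩,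
    fun W' p' _ e he => ?_⟩
  haveI := S0101.result p'
  haveI := preservesFiniteLimits_push p'
  haveI := preservesFiniteColimits_push p'
  let F := EtCoh.pull p' ⋙ EtCoh.push p'
  let η := (EtCoh.pullPushAdj p').unit
  let φ : P ⟶ P.map F := ⟨η.app _, η.app _, η.app _, (η.naturality P.f).symm, (η.naturality P.g).symm⟩
  let B := (EtCoh.bc p').obj (EtCoh.top S)
  let σ : B ⟶ (EtCoh.bc p').obj (T i) :=
    MorphismProperty.Over.homMk (pullback.lift (pullback.snd _ _ ≫ e ≫ U.ι) (pullback.snd _ _)
      (by rw [Category.assoc, Category.assoc, he])) (pullback.lift_snd _ _ _)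
  have hσ : σ ≫ (EtCoh.bc p').map (a i) = 𝟙 B := (EtCore.bcTopIsTerminal p').hom_ext _ _
  let r : (F.obj P.X₂).obj.obj (op (EtCoh.top S)) :=
    ((EtCoh.pull p').obj P.X₂).obj.map σ.op ((η.app P.X₂).hom.app (op (T i)) t)
  have hr : (F.map P.g).hom.app (op (EtCoh.top S)) r = (η.app P.X₃).hom.app (op (EtCoh.top S)) s := by
    have h1 : (F.map P.g).hom.app (op (EtCoh.top S)) r =
        ((EtCoh.pull p').obj P.X₃).obj.map σ.op ((F.map P.g).hom.app (op (T i)) ((η.app P.X₂).hom.app (op (T i)) t)) :=
      NatTrans.naturality_apply ((EtCoh.pull p').map P.g).hom σ.op _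
    have h2 : (F.map P.g).hom.app (op (T i)) ((η.app P.X₂).hom.app (op (T i)) t) =
        (η.app P.X₃).hom.app (op (T i)) (P.g.hom.app (op (T i)) t) :=
      (congr($(η.naturality P.g).hom.app (op (T i)) t)).symm
    rw [h1, h2, ht]
    refine (congrArg (((EtCoh.pull p').obj P.X₃).obj.map σ.op)
      (NatTrans.naturality_apply (η.app P.X₃).hom (a i).op s)).trans ?_
    show ((EtCoh.pull p').obj P.X₃).obj.map σ.op (((EtCoh.pull p').obj P.X₃).obj.map ((EtCoh.bc p').map (a i)).op _) = _
    rw [← ConcreteCategory.comp_apply, ← Functor.map_comp, ← op_comp, hσ, op_id, CategoryTheory.Functor.map_id]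
    rfl
  have hy' : y.comp (Ext.mk₀ φ.τ₃) (add_zero 0) =
      ((Sheaf.H.equiv₀ (F.obj P.X₂) hT).symm r).comp (Ext.mk₀ (P.map F).g) (add_zero 0) := by
    apply (Sheaf.H.equiv₀ (F.obj P.X₃) hT).injective
    refine (Sheaf.H.equiv₀_naturality hT (η.app P.X₃) y).symm.trans ?_
    refine Eq.trans hr.symm ?_
    refine Eq.trans ?_ (Sheaf.H.equiv₀_naturality hT (F.map P.g) _)
    rw [AddEquiv.apply_symm_apply]
  show ξ.comp (Ext.mk₀ φ.τ₁) (add_zero 1) = 0
  rw [← hy, Ext.comp_assoc_of_third_deg_zero, ShortComplex.ShortExact.extClass_naturality hP (hP.map_of_exact F) φ,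
    ← Ext.comp_assoc_of_second_deg_zero, hy', Ext.comp_assoc_of_second_deg_zero,
    (hP.map_of_exact F).comp_extClass, Ext.comp_zero]

/-- Positive-degree classes over a field die on finite étale covers. -/
theorem exists_killedOn {n : ℕ} {G : EtCoh.Ab (Spec (CommRingCat.of k))}
    (ξ : EtCoh.H (Spec (CommRingCat.of k)) G (n + 1)) :
    ∃ (W : Scheme.{u}) (p : W ⟶ Spec (CommRingCat.of k)), IsFinite p ∧ Etale p ∧ Surjective p ∧ KilledOn p G ξ := by
  induction n generalizing G with
  | zero => exact exists_killedOn_one ξ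
  | succ n ih =>
    let S := Spec (CommRingCat.of k)
    let P : ShortComplex (EtCoh.Ab S) := ShortComplex.mk (Injective.ι G) (cokernel.π _) (cokernel.condition _)
    have hP : P.ShortExact := { exact := ShortComplex.exact_cokernel (Injective.ι G), mono_f := Injective.ι_mono G }
    obtain ⟨y, hy⟩ := Ext.covariant_sequence_exact₁ _ hP ξ (Ext.eq_zero_of_injective _) (rfl : n + 1 + 1 = _)
    obtain ⟨W, p, h1, h2, h3, hW⟩ := ih y
    refine ⟨W, p, h1, h2, h3, fun W' p' _ e he => ?_⟩
    haveI := S0101.result p'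
    haveI := preservesFiniteLimits_push p'
    haveI := preservesFiniteColimits_push p'
    let F := EtCoh.pull p' ⋙ EtCoh.push p'
    let η := (EtCoh.pullPushAdj p').unit
    let φ : P ⟶ P.map F := ⟨η.app _, η.app _, η.app _, (η.naturality P.f).symm, (η.naturality P.g).symm⟩
    have hy' : y.comp (Ext.mk₀ φ.τ₃) (add_zero (n + 1)) = 0 := hW W' p' e he
    show ξ.comp (Ext.mk₀ φ.τ₁) (add_zero (n + 1 + 1)) = 0
    rw [← hy, Ext.comp_assoc_of_third_deg_zero, ShortComplex.ShortExact.extClass_naturality hP (hP.map_of_exact F) φ,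
      ← Ext.comp_assoc_of_second_deg_zero, hy', Ext.zero_comp]

end Field

variable {A : Type u} [CommRing A] [HenselianLocalRing A]

/-- The closed point of the spectrum of a local ring. -/
abbrev closedIncl (A : Type u) [CommRing A] [IsLocalRing A] :
    Spec (CommRingCat.of (IsLocalRing.ResidueField A)) ⟶ Spec (CommRingCat.of A) :=
  Spec.map (CommRingCat.ofHom (IsLocalRing.residue A))

/-- Restriction to the closed point makes injective sheaves acyclic. -/
theorem subsingleton_H_pull_of_injective (I : EtCoh.Ab (Spec (CommRingCat.of A))) [Injective I] (n : ℕ) :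
    Subsingleton (EtCoh.H _ ((EtCoh.pull (closedIncl A)).obj I) (n + 1)) := by
  haveI : HenselianRing A (IsLocalRing.maximalIdeal A) := Hensel.henselianRing_maximalIdeal_iff.2 inferInstance
  refine subsingleton_of_forall_eq 0 fun ξ => ?_
  let j := closedIncl A
  obtain ⟨W, p, _, _, hp, hW⟩ := exists_killedOn ξ
  haveI : (FEt.restrict j).IsEquivalence := isEquivalence_restrict_spec (IsLocalRing.maximalIdeal A)
  let W₀ : FEt.Cat (Spec (CommRingCat.of (IsLocalRing.ResidueField A))) := MorphismProperty.Over.mk ⊤ p ⟨‹_›, ‹_›⟩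
  let Y := (FEt.restrict j).objPreimage W₀
  let e := (FEt.restrict j).objObjPreimageIso W₀
  let π : Y.left ⟶ Spec (CommRingCat.of A) := Y.hom
  haveI : IsFinite π := Y.prop.1
  haveI : Etale π := Y.prop.2
  let p' : pullback π j ⟶ Spec (CommRingCat.of (IsLocalRing.ResidueField A)) := pullback.snd π j
  have he : e.hom.left ≫ p = p' := MorphismProperty.Over.w e.hom
  haveI : Surjective π := ⟨fun x => by
    obtain ⟨w, -⟩ := hp.surj (IsLocalRing.closedPoint (IsLocalRing.ResidueField A) : PrimeSpectrum _)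
    let z : ↥(pullback π j) := e.inv.left w
    let z₀ : Y.left := pullback.fst π j z
    have hz : π z₀ = j (p' z) := by
      rw [← Scheme.Hom.comp_apply, pullback.condition, Scheme.Hom.comp_apply]
    have hz' : π z₀ = (IsLocalRing.closedPoint A : PrimeSpectrum A) := by
      rw [hz]; exact IsLocalRing.comap_closedPoint (IsLocalRing.residue A) ▸
        congrArg (fun q => j q) (Subsingleton.elim (α := PrimeSpectrum (IsLocalRing.ResidueField A)) _ _)
    exact (IsLocalRing.specializes_closedPoint (R := A) x).mem_open π.isOpenMap.isOpen_range ⟨z₀, hz'⟩⟩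
  haveI := EtPtsLib.mono_unit_of_surjective π I
  let η := (EtCoh.pullPushAdj π).unit.app I
  let M := (EtCoh.pull π).obj I
  haveI : IsIso (EtCoh.baseChange0 π j p' (pullback.fst π j) pullback.condition M) :=
    EtPtsLib.isIso_baseChange0 π j p' (pullback.fst π j) (IsPullback.of_hasPullback π j) M
  let β := (EtCoh.pull j).map η ≫ EtCoh.baseChange0 π j p' (pullback.fst π j) pullback.condition M
  let γ := ((EtCoh.pullPushAdj p').homEquiv _ _).symm β
  have hβ : β = (EtCoh.pullPushAdj p').unit.app _ ≫ (EtCoh.push p').map γ :=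
    (((EtCoh.pullPushAdj p').homEquiv _ _).apply_symm_apply β).symm.trans (Adjunction.homEquiv_unit _ _ _ _)
  have hkill : Sheaf.H.map ((EtCoh.pullPushAdj p').unit.app ((EtCoh.pull j).obj I)) (n + 1) ξ = 0 :=
    hW _ p' e.hom.left he
  have h0 : Sheaf.H.map ((EtCoh.pull j).map η) (n + 1) ξ = 0 := by
    have : (EtCoh.pull j).map η = β ≫ inv (EtCoh.baseChange0 π j p' (pullback.fst π j) pullback.condition M) := by
      simp [β]
    rw [this, hβ, Sheaf.H.map_comp_apply, Sheaf.H.map_comp_apply]
    erw [hkill]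
    rw [map_zero, map_zero]
  let ret := Injective.factorThru (𝟙 I) η
  have hr : (EtCoh.pull j).map η ≫ (EtCoh.pull j).map ret = 𝟙 ((EtCoh.pull j).obj I) := by
    rw [← Functor.map_comp, Injective.comp_factorThru]
    exact (EtCoh.pull j).map_id I
  refine (Sheaf.H.map_id_apply (F := (EtCoh.pull j).obj I) ξ).symm.trans ?_
  rw [← hr]
  refine (Sheaf.H.map_comp_apply _ _ _).trans ?_
  exact (congrArg _ h0).trans (map_zero _)

/-- Restriction to the closed point is bijective on global homomorphisms from the constant sheaf. -/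
theorem bijective_map_const (F : EtCoh.Ab (Spec (CommRingCat.of A))) :
    Function.Bijective (fun a : EtCoh.const (Spec (CommRingCat.of A)) ℤ ⟶ F => (EtCoh.pull (closedIncl A)).map a) := by
  haveI : HenselianRing A (IsLocalRing.maximalIdeal A) := Hensel.henselianRing_maximalIdeal_iff.2 inferInstance
  let S := Spec (CommRingCat.of A)
  let j := closedIncl A
  let η := (EtCoh.pullPushAdj j).unit
  let hT := EtCore.topIsTerminal S
  have hu : Function.Bijective ((η.app F).hom.app (op (EtCoh.top S))) :=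
    bijective_unit_top_spec (IsLocalRing.maximalIdeal A) F
  have h0 : Function.Bijective (Sheaf.H.map (η.app F) 0) := by
    have h : ⇑(Sheaf.H.map (η.app F) 0) = ⇑(Sheaf.H.equiv₀ _ hT).symm ∘ ⇑((η.app F).hom.app (op (EtCoh.top S))) ∘
        ⇑(Sheaf.H.equiv₀ F hT) := by
      funext x
      refine (AddEquiv.symm_apply_apply (Sheaf.H.equiv₀ _ hT) _).symm.trans (congrArg _ ?_)
      exact (Sheaf.H.equiv₀_naturality hT (η.app F) x).symm
    rw [h]
    exact (Sheaf.H.equiv₀ _ hT).symm.bijective.comp (hu.comp (Sheaf.H.equiv₀ F hT).bijective)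
  have hp : Function.Bijective (fun a : EtCoh.const S ℤ ⟶ F => a ≫ η.app F) := by
    refine ((Ext.mk₀_bijective (EtCoh.const S ℤ) ((EtCoh.push j).obj ((EtCoh.pull j).obj F))).of_comp_iff' _).1 ?_
    have e : (Ext.mk₀ ∘ fun a : EtCoh.const S ℤ ⟶ F => a ≫ η.app F) = ⇑(Sheaf.H.map (η.app F) 0) ∘ Ext.mk₀ := by
      funext a
      exact (Ext.mk₀_comp_mk₀ a (η.app F)).symm
    rw [e]
    exact h0.comp (Ext.mk₀_bijective _ _)
  have e : (fun a : EtCoh.const S ℤ ⟶ F => a ≫ η.app F) =
      ⇑((EtCoh.pullPushAdj j).homEquiv _ _) ∘ fun a : EtCoh.const S ℤ ⟶ F => (EtCoh.pull j).map a := by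
    funext a
    exact (η.naturality a).trans (Adjunction.homEquiv_unit _ _ _ _).symm
  rw [e] at hp
  exact (((EtCoh.pullPushAdj j).homEquiv _ _).bijective.of_comp_iff' _).1 hp

variable [PreservesFiniteLimits (EtCoh.pull (closedIncl A))]

/-- Cohomology of a henselian local scheme is that of its closed point. -/
theorem bijective_Hpull (F : EtCoh.Ab (Spec (CommRingCat.of A))) (n : ℕ) :
    Function.Bijective (EtCore.Hpull (closedIncl A) F n) := by
  let S := Spec (CommRingCat.of A)
  let j := closedIncl A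
  let c := EtCore.pullConst j ℤ
  have key : ∀ (F G : EtCoh.Ab S) (a : ℕ) (x : EtCoh.H S F a) (b d : ℕ) (z : Ext F G b) (h : a + b = d),
      EtCore.Hpull j G d (x.comp z h) = (EtCore.Hpull j F a x).comp (z.mapExactFunctor (EtCoh.pull j)) h := by
    intro F G a x b d z h
    show (Ext.mk₀ c.inv).comp ((x.comp z h).mapExactFunctor (EtCoh.pull j)) (zero_add d) = _
    rw [Ext.mapExactFunctor_comp]
    exact (Ext.comp_assoc _ _ _ (zero_add a) h (by omega)).symm
  induction n generalizing F with
  | zero =>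
    have hc : Function.Bijective (fun b : (EtCoh.pull j).obj (EtCoh.const S ℤ) ⟶ (EtCoh.pull j).obj F => c.inv ≫ b) :=
      ⟨fun a b h => (cancel_epi c.inv).1 h, fun b => ⟨c.hom ≫ b, Iso.inv_hom_id_assoc c b⟩⟩
    refine (Function.Bijective.of_comp_iff _ (Ext.mk₀_bijective (EtCoh.const S ℤ) F)).1 ?_
    have e : ⇑(EtCore.Hpull j F 0) ∘ Ext.mk₀ =
        Ext.mk₀ ∘ ((fun b => c.inv ≫ b) ∘ fun a : EtCoh.const S ℤ ⟶ F => (EtCoh.pull j).map a) := by
      funext a
      show (Ext.mk₀ c.inv).comp ((Ext.mk₀ a).mapExactFunctor (EtCoh.pull j)) (zero_add 0) = _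
      rw [Ext.mapExactFunctor_mk₀, Ext.mk₀_comp_mk₀]
      rfl
    rw [e]
    exact (Ext.mk₀_bijective _ _).comp (hc.comp (bijective_map_const F))
  | succ n ih =>
    let P : ShortComplex (EtCoh.Ab S) := ShortComplex.mk (Injective.ι F) (cokernel.π _) (cokernel.condition _)
    have hP : P.ShortExact := { exact := ShortComplex.exact_cokernel (Injective.ι F), mono_f := Injective.ι_mono F }
    let hP' := hP.map_of_exact (EtCoh.pull j)
    haveI : Injective P.X₂ := inferInstanceAs (Injective (Injective.under F))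
    haveI hz := subsingleton_H_pull_of_injective (A := A) P.X₂ n
    have hδ : ∀ y : EtCoh.H S P.X₃ n, EtCore.Hpull j F (n + 1) (y.comp hP.extClass rfl) =
        (EtCore.Hpull j P.X₃ n y).comp hP'.extClass rfl := by
      intro y
      refine (key _ _ n y 1 (n + 1) hP.extClass rfl).trans ?_
      rw [Ext.mapExactFunctor_extClass]
    constructor
    · refine (injective_iff_map_eq_zero _).2 fun ξ hξ => ?_
      obtain ⟨y, rfl⟩ := Ext.covariant_sequence_exact₁ _ hP ξ (Ext.eq_zero_of_injective _) (rfl : n + 1 = _)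
      rw [hδ] at hξ
      obtain ⟨w, hw⟩ := Ext.covariant_sequence_exact₃ _ hP' _ (rfl : n + 1 = _) hξ
      obtain ⟨w', rfl⟩ := (ih P.X₂).2 w
      have : y = w'.comp (Ext.mk₀ P.g) (add_zero n) := by
        apply (ih P.X₃).1
        refine hw.symm.trans ?_
        refine Eq.trans ?_ (key _ _ n w' 0 n (Ext.mk₀ P.g) (add_zero n)).symm
        rw [Ext.mapExactFunctor_mk₀]
        rfl
      rw [this, Ext.comp_assoc_of_second_deg_zero, hP.comp_extClass, Ext.comp_zero]
    · intro ξ
      have hz' : ξ.comp (Ext.mk₀ (P.map (EtCoh.pull j)).f) (add_zero (n + 1)) = 0 := hz.elim _ _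
      obtain ⟨y, hy⟩ := Ext.covariant_sequence_exact₁ _ hP' ξ hz' (rfl : n + 1 = _)
      obtain ⟨y', rfl⟩ := (ih P.X₃).2 y
      exact ⟨y'.comp hP.extClass rfl, (hδ y').trans hy⟩

end Groth.Agent.HensH0
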