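import Groth.Agent.HensH0.Proper
import Groth.Agent.FEtLib.Restrict
import Groth.Agent.Hensel.FiniteEtale

/-!
# Finite étale covers over henselian pairs
-/

set_option autoImplicit false
set_option linter.style.haveILetI false
set_option backward.isDefEq.respectTransparency false
set_option backward.isDefEq.respectTransparency.types false

universe u
open CategoryTheory CategoryTheory.Limits AlgebraicGeometry Opposite TensorProduct

noncomputable section

namespace Groth.Agent.HensH0

variable {A : Type u} [CommRing A] (I : Ideal A) [HenselianRing A I] {X : Scheme.{u}}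
  (f : X ⟶ Spec (CommRingCat.of A))

/-- Clopens of a closed subscheme supported on the closed part lift. -/
theorem exists_clopen_lift_of_range [IsProper f] {T : Scheme.{u}} (e : T ⟶ X) [IsClosedImmersion e]
    (he : Set.range e = f ⁻¹' PrimeSpectrum.zeroLocus (I : Set A)) (C : Set T) (hC : IsClopen C) :
    ∃ W : Set X, IsClopen W ∧ e ⁻¹' W = C := by
  let j := Spec.map (CommRingCat.ofHom (Ideal.Quotient.mk I))
  let k := pullback.fst f j
  have hr : Set.range k = Set.range e := (range_fst_eq I f).trans he.symm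
  have hinj := e.isClosedEmbedding.injective
  let C' := k ⁻¹' (e '' C)
  have hC' : IsClopen C' := ⟨(e.isClosedEmbedding.isClosedMap _ hC.1).preimage k.continuous, by
    have : C'ᶜ = k ⁻¹' (e '' Cᶜ) := by
      ext p
      obtain ⟨q, hq⟩ : k p ∈ Set.range e := hr ▸ ⟨p, rfl⟩
      simp only [C', Set.mem_compl_iff, Set.mem_preimage, ← hq, hinj.mem_set_image]
    exact isClosed_compl_iff.1 (this ▸ (e.isClosedEmbedding.isClosedMap _ hC.compl.1).preimage k.continuous)⟩
  obtain ⟨W, hW, hWC⟩ := QFinEtDesc.exists_clopen_lift I f C' hC'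
  change k ⁻¹' W = C' at hWC
  refine ⟨W, hW, Set.ext fun z => ?_⟩
  obtain ⟨p, hp⟩ : e z ∈ Set.range k := hr.symm ▸ ⟨z, rfl⟩
  show e z ∈ W ↔ z ∈ C
  rw [← hp, ← Set.mem_preimage, hWC]
  show k p ∈ e '' C ↔ _
  rw [hp, hinj.mem_set_image]

/-- Restriction of covers of a proper scheme over a henselian pair to a closed subscheme supported on the
closed part is fully faithful. -/
theorem fullyFaithful_of_range [IsProper f] {T : Scheme.{u}} (r : T ⟶ X) [IsClosedImmersion r]
    (hr : Set.range r = f ⁻¹' PrimeSpectrum.zeroLocus (I : Set A)) :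
    (FEt.restrict r).Full ∧ (FEt.restrict r).Faithful := by
  have hm : FEtLib.MeetsClopens r := fun U hU hne => by
    obtain ⟨z, hz, hzr⟩ := nonempty_inter I f U hU.1 hne
    rw [range_fst_eq, ← hr] at hzr
    obtain ⟨t, rfl⟩ := hzr
    exact ⟨t, hz⟩
  refine ⟨FEtLib.full r hm fun W V hV => ?_, FEtLib.faithful r hm⟩
  let w : W.left ⟶ X := W.hom
  haveI : IsFinite w := W.prop.1
  haveI : IsProper (w ≫ f) := inferInstance
  haveI : IsClosedImmersion (pullback.fst w r) := MorphismProperty.pullback_fst _ _ inferInstance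
  have hrange : Set.range (pullback.fst w r) = (w ≫ f) ⁻¹' PrimeSpectrum.zeroLocus (I : Set A) := by
    rw [Scheme.Pullback.range_fst, hr]
    rfl
  exact exists_clopen_lift_of_range I (w ≫ f) (pullback.fst w r) hrange V hV

/-- Finite étale covers of a henselian pair are those of the quotient. -/
theorem isEquivalence_restrict_spec :
    (FEt.restrict (Spec.map (CommRingCat.ofHom (Ideal.Quotient.mk I)))).IsEquivalence := by
  let j := Spec.map (CommRingCat.ofHom (Ideal.Quotient.mk I))
  haveI : IsClosedImmersion j := IsClosedImmersion.spec_of_surjective _ Ideal.Quotient.mk_surjective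
  obtain ⟨hfull, hfaith⟩ := fullyFaithful_of_range I (𝟙 (Spec (CommRingCat.of A))) j
    ((range_comap_of_surjective _ _ Ideal.Quotient.mk_surjective).trans (by rw [Ideal.mk_ker]; rfl))
  haveI := hfull; haveI := hfaith
  haveI : (FEt.restrict j).EssSurj := ⟨fun Y₀ => by
    let y : Y₀.left ⟶ Spec (CommRingCat.of (A ⧸ I)) := Y₀.hom
    haveI : IsFinite y := Y₀.prop.1
    haveI : Etale y := Y₀.prop.2
    haveI : IsAffine Y₀.left := isAffine_of_isAffineHom y
    let φ := Spec.preimage (Y₀.left.isoSpec.inv ≫ y)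
    have hφ : Spec.map φ = Y₀.left.isoSpec.inv ≫ y := Spec.map_preimage _
    let C : Type u := Γ(Y₀.left, ⊤)
    letI : Algebra (A ⧸ I) C := φ.hom.toAlgebra
    haveI : Module.Finite (A ⧸ I) C := RingHom.finite_algebraMap.1 ((IsFinite.SpecMap_iff φ).1 (hφ ▸ inferInstance))
    haveI : Algebra.Etale (A ⧸ I) C :=
      RingHom.etale_algebraMap.1 ((HasRingHomProperty.Spec_iff (P := @Etale) (φ := φ)).1 (hφ ▸ inferInstance))
    obtain ⟨B, _, _, hfin, het, ⟨θ⟩⟩ := Hensel.exists_finite_etale_lift (I := I) C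
    let Y : FEt.Cat (Spec (CommRingCat.of A)) := MorphismProperty.Over.mk ⊤
      (Spec.map (CommRingCat.ofHom (algebraMap A B)))
      ⟨(IsFinite.SpecMap_iff _).2 (RingHom.finite_algebraMap.2 hfin),
        (HasRingHomProperty.Spec_iff (P := @Etale)).2 (RingHom.etale_algebraMap.2 het)⟩
    let e : ((FEt.restrict j).obj Y).left ≅ Y₀.left :=
      pullbackSymmetry _ j ≪≫ pullbackSpecIso A (A ⧸ I) B ≪≫
        Scheme.Spec.mapIso θ.toRingEquiv.toCommRingCatIso.symm.op ≪≫ Y₀.left.isoSpec.symm
    refine ⟨Y, ⟨MorphismProperty.Over.isoMk e ?_⟩⟩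
    show e.hom ≫ y = pullback.snd _ j
    simp only [e, Iso.trans_hom, Iso.symm_hom, Category.assoc]
    rw [← hφ]
    show _ ≫ _ ≫ Spec.map _ ≫ Spec.map φ = _
    rw [← Spec.map_comp]
    have : φ ≫ θ.toRingEquiv.toCommRingCatIso.symm.op.hom.unop =
        CommRingCat.ofHom (algebraMap (A ⧸ I) ((A ⧸ I) ⊗[A] B)) := by
      ext x
      exact θ.symm.commutes x
    rw [this]
    refine (congrArg ((pullbackSymmetry _ j).hom ≫ ·) (pullbackSpecIso_hom_fst A (A ⧸ I) B)).trans ?_
    exact pullbackSymmetry_hom_comp_fst _ _⟩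
  exact Functor.IsEquivalence.mk

end Groth.Agent.HensH0
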