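import Groth.Agent.EtH1Lib.Torsor
import Groth.Agent.HensH0.HenLocal
import Groth.Agent.S0100

/-!
# First cohomology on the closed fibre of a proper scheme over a henselian pair

Classes of degree one with coefficients in a finite locally constant sheaf die on a finite etale
covering, finite etale coverings of the closed part lift, and global sections do not change on the
closed part: so restriction to the closed part is bijective on `H¹`.
-/

set_option autoImplicit false
set_option linter.style.haveILetI false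
set_option backward.isDefEq.respectTransparency false
set_option backward.isDefEq.respectTransparency.types false
set_option maxHeartbeats 1000000

universe u

open CategoryTheory CategoryTheory.Limits AlgebraicGeometry Opposite GrothendieckTopology Abelian

noncomputable section

namespace Groth.Agent.HensH0

open EtPtsLib FLCLib EtRepLib EtH1Lib

section Cover

variable {Z : Scheme.{u}} {S : ShortComplex (EtCoh.Ab Z)} (hS : S.ShortExact)

include hS in
/-- Lifts of a section exist on a finite etale covering. -/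
theorem exists_lift_on_cover (hF : EtCoh.IsFiniteLocallyConstant S.X₁)
    (q : EtCoh.sect S.X₃ (EtCoh.top Z)) : ∃ (T : Z.Etale) (_ : IsFinite T.hom) (_ : Surjective T.hom)
      (i : EtCoh.sect S.X₂ T), S.g.hom.app (op T) i = S.X₃.obj.map ((EtCore.topIsTerminal Z).from T).op q := by
  haveI := hS.epi_g
  haveI : Sheaf.IsLocallySurjective S.g :=
    (Sheaf.isLocallySurjective_iff_epi' AddCommGrpCat.{u + 1} S.g).2 inferInstance
  choose V₀ g₀ v₀ hg₀ hv₀ using fun z : Z =>
    exists_mem_of_covering (Presheaf.imageSieve_mem Z.smallEtaleTopology S.g.hom (U := op (EtCoh.top Z)) q) z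
  choose V₁ M θ hV₁ hM hθ using (finiteLocallyConstant_iff S.X₁).1 hF
  haveI : ∀ z, Finite (M z) := hM
  -- a common refinement
  have href : ∀ z : Z, ∃ (U : Z.Etale) (a : U ⟶ V₀ z) (b : U ⟶ V₁ z), z ∈ Set.range U.hom := fun z => by
    obtain ⟨y, hy⟩ := hV₁ z
    have hx : (V₀ z).hom (v₀ z) = (V₁ z).hom y := by
      rw [hy, show (V₀ z).hom = (g₀ z).left from (Over.w (g₀ z).hom).symm.trans (Category.comp_id _)]
      exact hv₀ z
    obtain ⟨w, hw, -⟩ := Scheme.Pullback.exists_preimage_pullback (f := (V₀ z).hom) (g := (V₁ z).hom) _ _ hx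
    haveI := (V₀ z).prop
    haveI := (V₁ z).prop
    refine ⟨Scheme.Etale.mk (pullback.fst (V₀ z).hom (V₁ z).hom ≫ (V₀ z).hom),
      MorphismProperty.Over.homMk (pullback.fst _ _) rfl,
      MorphismProperty.Over.homMk (pullback.snd _ _) pullback.condition.symm, w, ?_⟩
    show (V₀ z).hom (pullback.fst (V₀ z).hom (V₁ z).hom w) = z
    rw [hw, show (V₀ z).hom = (g₀ z).left from (Over.w (g₀ z).hom).symm.trans (Category.comp_id _)]
    exact hv₀ z
  choose U a b hU using href
  choose i₀ hi₀ using hg₀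
  have hi : ∀ z, S.g.hom.app (op (U z)) (S.X₂.obj.map (a z).op (i₀ z)) =
      S.X₃.obj.map ((EtCore.topIsTerminal Z).from (U z)).op q := fun z => by
    rw [app_map, hi₀, ← CategoryTheory.comp_apply, ← Functor.map_comp, ← op_comp,
      (EtCore.topIsTerminal Z).hom_ext (a z ≫ g₀ z) ((EtCore.topIsTerminal Z).from (U z))]
  have hg0 : ∀ (W : Z.Etale) (m : EtCoh.sect S.X₁ W), S.g.hom.app (op W) (S.f.hom.app (op W) m) = 0 := fun W m => by
    exact congrArg (fun q : S.X₁ ⟶ S.X₃ => q.hom.app (op W) m) S.zero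
  let D : ConstData (lifts q) :=
    { ι := Z, U := U, cov := fun z => ⟨z, hU z⟩, n := fun z => Nat.card (M z)
      θ := fun z m => ⟨S.X₂.obj.map (a z).op (i₀ z) +
          S.f.hom.app (op (U z)) ((θ z ≫ S.X₁.obj.map (b z).op) ((Finite.equivFin (M z)).symm m)), by
        show S.g.hom.app (op (U z)) _ = _
        rw [map_add, hi, hg0, add_zero]⟩
      gen := fun z W g σ v => by
        obtain ⟨d, hd⟩ := exists_preimage hS W (σ.1 - S.X₂.obj.map g.op (S.X₂.obj.map (a z).op (i₀ z))) (by
          rw [map_sub, app_map, hi, σ.2, ← CategoryTheory.comp_apply, ← Functor.map_comp, ← op_comp,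
            (EtCore.topIsTerminal Z).hom_ext (g ≫ (EtCore.topIsTerminal Z).from (U z))
              ((EtCore.topIsTerminal Z).from W), sub_self])
        obtain ⟨l, hl⟩ := exists_lift_geomPt v
        obtain ⟨m, hm⟩ := (((hθ z).map (b z)).map g _ _ l).2 (germ _ S.X₁ l d)
        obtain ⟨T, e, t, ht, he⟩ := ((Scheme.pointSmallEtale _).toPresheafFiber_eq_iff' W l _ _).1 hm
        refine ⟨T, e, liftHom _ t default, Finite.equivFin (M z) m, ?_, ?_⟩
        · refine Eq.trans ?_ hl
          refine Eq.trans ?_ (congrArg (fun q => liftHom _ q default) ht)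
          rw [liftHom_map]
          rfl
        · refine Subtype.ext ?_
          show S.X₂.obj.map e.op σ.1 = S.X₂.obj.map (e ≫ g).op _
          rw [Equiv.symm_apply_apply, op_comp, Functor.map_comp, CategoryTheory.comp_apply,
            show σ.1 = S.X₂.obj.map g.op (S.X₂.obj.map (a z).op (i₀ z)) + S.f.hom.app (op W) d by
              rw [hd]; abel, map_add', map_add' _ g, map_add' _ e, ← app_map, ← app_map]
          exact congrArg₂ (· + ·) rfl ((congrArg (fun w => S.f.hom.app (op T) w) he.symm).trans (app_map S.f e _))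
      sep := fun z W g v m m' hm => by
        have h1 : S.X₂.obj.map g.op (_ + _) = S.X₂.obj.map g.op (_ + _) := congrArg Subtype.val hm
        rw [map_add', map_add', add_left_cancel_iff, ← app_map, ← app_map] at h1
        obtain ⟨l, -⟩ := exists_lift_geomPt v
        exact (Finite.equivFin (M z)).symm.injective
          ((((hθ z).map (b z)).map g _ _ l).1 (congrArg (germ _ S.X₁ l) (app_injective hS W h1))) }
  obtain ⟨T, hT, t, ht⟩ := D.exists_representing (isSheaf_lifts q)
  haveI : AlgebraicGeometry.Etale T.hom := T.prop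
  haveI : Surjective T.hom := ⟨fun z => by
    obtain ⟨w, hw⟩ := hU z
    obtain ⟨h, -⟩ := (ht (U z)).2 ⟨_, hi z⟩
    refine ⟨h.left w, ?_⟩
    exact ((Scheme.Hom.comp_apply h.left T.hom w).symm.trans
      (congrArg (fun f : (U z).left ⟶ Z => f w) (MorphismProperty.Over.w h))).trans hw⟩
  exact ⟨T, hT, ‹Surjective T.hom›, t.1, t.2⟩

/-- Classes of degree one with finite locally constant coefficients die on a finite etale covering. -/
theorem exists_cover_killing (G : EtCoh.Ab Z) (hG : EtCoh.IsFiniteLocallyConstant G) (ξ : EtCoh.H Z G 1) :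
    ∃ (T : Z.Etale) (_ : IsFinite T.hom) (_ : Surjective T.hom),
      Sheaf.H.map ((EtCoh.pullPushAdj T.hom).unit.app G) 1 ξ = 0 := by
  let hT := EtCore.topIsTerminal Z
  let P := ShortComplex.mk (Injective.ι G) (cokernel.π (Injective.ι G)) (cokernel.condition _)
  have hP : P.ShortExact := { exact := ShortComplex.exact_of_g_is_cokernel P (cokernelIsCokernel _) }
  haveI : Injective P.X₂ := Injective.injective_under G
  obtain ⟨y, hy⟩ := Ext.covariant_sequence_exact₁ _ hP ξ (Ext.eq_zero_of_injective _) (zero_add 1)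
  let s : EtCoh.sect P.X₃ (EtCoh.top Z) := Sheaf.H.equiv₀ P.X₃ hT y
  obtain ⟨T, hTf, hTs, t, ht⟩ := exists_lift_on_cover hP hG s
  refine ⟨T, hTf, hTs, ?_⟩
  haveI := hTf
  let p' := T.hom
  haveI := S0101.result p'
  haveI := preservesFiniteLimits_push p'
  haveI := preservesFiniteColimits_push p'
  let F := EtCoh.pull p' ⋙ EtCoh.push p'
  let η := (EtCoh.pullPushAdj p').unit
  let φ : P ⟶ P.map F := ⟨η.app _, η.app _, η.app _, (η.naturality P.f).symm, (η.naturality P.g).symm⟩
  let B := (EtCoh.bc p').obj (EtCoh.top Z)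
  let σ : B ⟶ (EtCoh.bc p').obj T :=
    MorphismProperty.Over.homMk (pullback.lift (pullback.snd _ _) (pullback.snd _ _) rfl) (pullback.lift_snd _ _ _)
  let a : T ⟶ EtCoh.top Z := hT.from T
  have hσ : σ ≫ (EtCoh.bc p').map a = 𝟙 B := (EtCore.bcTopIsTerminal p').hom_ext _ _
  let r : (F.obj P.X₂).obj.obj (op (EtCoh.top Z)) :=
    ((EtCoh.pull p').obj P.X₂).obj.map σ.op ((η.app P.X₂).hom.app (op T) t)
  have hr : (F.map P.g).hom.app (op (EtCoh.top Z)) r = (η.app P.X₃).hom.app (op (EtCoh.top Z)) s := by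
    have h1 : (F.map P.g).hom.app (op (EtCoh.top Z)) r =
        ((EtCoh.pull p').obj P.X₃).obj.map σ.op ((F.map P.g).hom.app (op T) ((η.app P.X₂).hom.app (op T) t)) :=
      NatTrans.naturality_apply ((EtCoh.pull p').map P.g).hom σ.op _
    have h2 : (F.map P.g).hom.app (op T) ((η.app P.X₂).hom.app (op T) t) =
        (η.app P.X₃).hom.app (op T) (P.g.hom.app (op T) t) :=
      (congr($(η.naturality P.g).hom.app (op T) t)).symm
    rw [h1, h2, ht]
    refine (congrArg (((EtCoh.pull p').obj P.X₃).obj.map σ.op)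
      (NatTrans.naturality_apply (η.app P.X₃).hom a.op s)).trans ?_
    show ((EtCoh.pull p').obj P.X₃).obj.map σ.op (((EtCoh.pull p').obj P.X₃).obj.map ((EtCoh.bc p').map a).op _) = _
    rw [← ConcreteCategory.comp_apply, ← Functor.map_comp, ← op_comp, hσ, op_id, CategoryTheory.Functor.map_id]
    rfl
  have hy' : y.comp (Ext.mk₀ φ.τ₃) (add_zero 0) =
      ((Sheaf.H.equiv₀ (F.obj P.X₂) hT).symm r).comp (Ext.mk₀ (P.map F).g) (add_zero 0) := by
    apply (Sheaf.H.equiv₀ (F.obj P.X₃) hT).injective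
    refine (Sheaf.H.equiv₀_naturality hT (η.app P.X₃) y).symm.trans ?_
    refine Eq.trans hr.symm ?_
    refine Eq.trans ?_ (Sheaf.H.equiv₀_naturality hT (F.map P.g) _)
    rw [AddEquiv.apply_symm_apply]
  show ξ.comp (Ext.mk₀ φ.τ₁) (add_zero 1) = 0
  rw [← hy, Ext.comp_assoc_of_third_deg_zero, ShortComplex.ShortExact.extClass_naturality hP (hP.map_of_exact F) φ,
    ← Ext.comp_assoc_of_second_deg_zero, hy', Ext.comp_assoc_of_second_deg_zero,
    (hP.map_of_exact F).comp_extClass, Ext.comp_zero]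

end Cover

section Closed

variable {X Z : Scheme.{u}} (j : Z ⟶ X) [PreservesFiniteLimits (EtCoh.pull j)]

theorem Hpull_comp {F G : EtCoh.Ab X} {a b d : ℕ} (x : EtCoh.H X F a) (z : Ext F G b) (h : a + b = d) :
    EtCore.Hpull j G d (x.comp z h) = (EtCore.Hpull j F a x).comp (z.mapExactFunctor (EtCoh.pull j)) h := by
  show (Ext.mk₀ (EtCore.pullConst j ℤ).inv).comp ((x.comp z h).mapExactFunctor (EtCoh.pull j)) (zero_add d) = _
  rw [Ext.mapExactFunctor_comp]
  exact (Ext.comp_assoc _ _ _ (zero_add a) h (by omega)).symm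

theorem Hpull_extClass {P : ShortComplex (EtCoh.Ab X)} (hP : P.ShortExact) {n : ℕ} (y : EtCoh.H X P.X₃ n) :
    EtCore.Hpull j P.X₁ (n + 1) (y.comp hP.extClass rfl) =
      (EtCore.Hpull j P.X₃ n y).comp (hP.map_of_exact (EtCoh.pull j)).extClass rfl := by
  rw [Hpull_comp, Ext.mapExactFunctor_extClass]

variable (hu : ∀ F : EtCoh.Ab X,
  Function.Bijective (((EtCoh.pullPushAdj j).unit.app F).hom.app (op (EtCoh.top X))))

include hu in
/-- Restriction of global sections, as a map of cohomology in degree zero. -/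
theorem bijective_Hpull_zero (F : EtCoh.Ab X) : Function.Bijective (EtCore.Hpull j F 0) := by
  let η := (EtCoh.pullPushAdj j).unit
  let hT := EtCore.topIsTerminal X
  let c := EtCore.pullConst j ℤ
  have h0 : Function.Bijective (Sheaf.H.map (η.app F) 0) := by
    have h : ⇑(Sheaf.H.map (η.app F) 0) = ⇑(Sheaf.H.equiv₀ _ hT).symm ∘ ⇑((η.app F).hom.app (op (EtCoh.top X))) ∘
        ⇑(Sheaf.H.equiv₀ F hT) := by
      funext x
      refine (AddEquiv.symm_apply_apply (Sheaf.H.equiv₀ _ hT) _).symm.trans (congrArg _ ?_)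
      exact (Sheaf.H.equiv₀_naturality hT (η.app F) x).symm
    rw [h]
    exact (Sheaf.H.equiv₀ _ hT).symm.bijective.comp ((hu F).comp (Sheaf.H.equiv₀ F hT).bijective)
  have hp : Function.Bijective (fun a : EtCoh.const X ℤ ⟶ F => a ≫ η.app F) := by
    refine ((Ext.mk₀_bijective (EtCoh.const X ℤ) ((EtCoh.push j).obj ((EtCoh.pull j).obj F))).of_comp_iff' _).1 ?_
    have e : (Ext.mk₀ ∘ fun a : EtCoh.const X ℤ ⟶ F => a ≫ η.app F) = ⇑(Sheaf.H.map (η.app F) 0) ∘ Ext.mk₀ := by
      funext a
      exact (Ext.mk₀_comp_mk₀ a (η.app F)).symm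
    rw [e]
    exact h0.comp (Ext.mk₀_bijective _ _)
  have e : (fun a : EtCoh.const X ℤ ⟶ F => a ≫ η.app F) =
      ⇑((EtCoh.pullPushAdj j).homEquiv _ _) ∘ fun a : EtCoh.const X ℤ ⟶ F => (EtCoh.pull j).map a := by
    funext a
    exact (η.naturality a).trans (Adjunction.homEquiv_unit _ _ _ _).symm
  rw [e] at hp
  have hm := (((EtCoh.pullPushAdj j).homEquiv _ _).bijective.of_comp_iff' _).1 hp
  have hc : Function.Bijective (fun b : (EtCoh.pull j).obj (EtCoh.const X ℤ) ⟶ (EtCoh.pull j).obj F => c.inv ≫ b) :=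
    ⟨fun a b h => (cancel_epi c.inv).1 h, fun b => ⟨c.hom ≫ b, Iso.inv_hom_id_assoc c b⟩⟩
  refine (Function.Bijective.of_comp_iff _ (Ext.mk₀_bijective (EtCoh.const X ℤ) F)).1 ?_
  have e2 : ⇑(EtCore.Hpull j F 0) ∘ Ext.mk₀ =
      Ext.mk₀ ∘ ((fun b => c.inv ≫ b) ∘ fun a : EtCoh.const X ℤ ⟶ F => (EtCoh.pull j).map a) := by
    funext a
    show (Ext.mk₀ c.inv).comp ((Ext.mk₀ a).mapExactFunctor (EtCoh.pull j)) (zero_add 0) = _
    rw [Ext.mapExactFunctor_mk₀, Ext.mk₀_comp_mk₀]
    rfl
  rw [e2]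
  exact (Ext.mk₀_bijective _ _).comp (hc.comp hm)

include hu in
/-- Restriction to the closed part is injective on `H¹`, for every sheaf. -/
theorem injective_Hpull_one (F : EtCoh.Ab X) : Function.Injective (EtCore.Hpull j F 1) := by
  let P : ShortComplex (EtCoh.Ab X) := ShortComplex.mk (Injective.ι F) (cokernel.π _) (cokernel.condition _)
  have hP : P.ShortExact := { exact := ShortComplex.exact_cokernel (Injective.ι F), mono_f := Injective.ι_mono F }
  haveI : Injective P.X₂ := inferInstanceAs (Injective (Injective.under F))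
  refine (injective_iff_map_eq_zero _).2 fun ξ hξ => ?_
  obtain ⟨y, rfl⟩ := Ext.covariant_sequence_exact₁ _ hP ξ (Ext.eq_zero_of_injective _) (rfl : 0 + 1 = _)
  replace hξ := (Hpull_extClass j hP y).symm.trans hξ
  obtain ⟨w, hw⟩ := Ext.covariant_sequence_exact₃ _ (hP.map_of_exact (EtCoh.pull j)) _ (rfl : 0 + 1 = _) hξ
  obtain ⟨w', rfl⟩ := (bijective_Hpull_zero j hu P.X₂).2 w
  have : y = w'.comp (Ext.mk₀ P.g) (add_zero 0) := by
    apply (bijective_Hpull_zero j hu P.X₃).1
    refine hw.symm.trans ?_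
    rw [Hpull_comp, Ext.mapExactFunctor_mk₀]
    rfl
  rw [this, Ext.comp_assoc_of_second_deg_zero, hP.comp_extClass, Ext.comp_zero]

include hu in
/-- A class killed by a monomorphism from the whole scheme comes from the whole scheme. -/
theorem mem_range_Hpull_one {F G : EtCoh.Ab X} (a : F ⟶ G) [Mono a] (ξ : EtCoh.H Z ((EtCoh.pull j).obj F) 1)
    (h : Sheaf.H.map ((EtCoh.pull j).map a) 1 ξ = 0) : ∃ x, EtCore.Hpull j F 1 x = ξ := by
  let P : ShortComplex (EtCoh.Ab X) := ShortComplex.mk a (cokernel.π a) (cokernel.condition _)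
  have hP : P.ShortExact := { exact := ShortComplex.exact_cokernel a, mono_f := ‹Mono a› }
  obtain ⟨y, hy⟩ := Ext.covariant_sequence_exact₁ _ (hP.map_of_exact (EtCoh.pull j)) ξ h (rfl : 0 + 1 = _)
  obtain ⟨y', rfl⟩ := (bijective_Hpull_zero j hu P.X₃).2 y
  exact ⟨y'.comp hP.extClass rfl, (Hpull_extClass j hP y').trans hy⟩

include hu in
/-- Restriction to the closed part is bijective on `H¹` of finite locally constant sheaves. -/
theorem bijective_Hpull_one [(FEt.restrict j).IsEquivalence]
    (hmeet : ∀ C : Set X, IsClosed C → C.Nonempty → (C ∩ Set.range j).Nonempty) (F : EtCoh.Ab X)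
    (hF : EtCoh.IsFiniteLocallyConstant ((EtCoh.pull j).obj F)) :
    Function.Bijective (EtCore.Hpull j F 1) := by
  refine ⟨injective_Hpull_one j hu F, fun ξ => ?_⟩
  obtain ⟨T, hTf, hTs, hT⟩ := exists_cover_killing _ hF ξ
  let p : T.left ⟶ Z := T.hom
  haveI : IsFinite p := hTf
  haveI : Etale p := T.prop
  haveI : Surjective p := hTs
  let W₀ : FEt.Cat Z := MorphismProperty.Over.mk ⊤ p ⟨‹_›, ‹_›⟩
  let Y := (FEt.restrict j).objPreimage W₀
  let e := (FEt.restrict j).objObjPreimageIso W₀
  let π : Y.left ⟶ X := Y.hom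
  haveI : IsFinite π := Y.prop.1
  haveI : Etale π := Y.prop.2
  let p' : pullback π j ⟶ Z := pullback.snd π j
  let e' : T.left ⟶ pullback π j := e.inv.left
  haveI : IsIso e' := inferInstanceAs (IsIso e.inv.left)
  have he : e' ≫ p' = p := MorphismProperty.Over.w e.inv
  haveI : Surjective π := ⟨fun x => by
    by_contra hx
    obtain ⟨_, hy, z, rfl⟩ := hmeet (Set.range π)ᶜ π.isOpenMap.isOpen_range.isClosed_compl ⟨x, hx⟩
    obtain ⟨w, rfl⟩ := p.surjective z
    refine hy ⟨pullback.fst π j (e' w), ?_⟩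
    rw [← Scheme.Hom.comp_apply, pullback.condition, Scheme.Hom.comp_apply]
    exact congrArg (fun q => j q) (congr($he w))⟩
  haveI := EtPtsLib.mono_unit_of_surjective π F
  let η := (EtCoh.pullPushAdj π).unit.app F
  let M := (EtCoh.pull π).obj F
  let i : T.left ⟶ Y.left := e' ≫ pullback.fst π j
  have hpb : IsPullback i p π j := by
    refine (IsPullback.of_hasPullback π j).of_iso (asIso e').symm (Iso.refl _) (Iso.refl _) (Iso.refl _)
      ?_ ?_ (by simp) (by simp)
    · simp [i]
    · rw [Iso.symm_hom, asIso_inv, IsIso.eq_inv_comp, Iso.refl_hom, Category.comp_id]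
      exact he
  haveI : IsIso (EtCoh.baseChange0 π j p i hpb.w M) := EtPtsLib.isIso_baseChange0 π j p i hpb M
  let β := (EtCoh.pull j).map η ≫ EtCoh.baseChange0 π j p i hpb.w M
  let γ := ((EtCoh.pullPushAdj p).homEquiv _ _).symm β
  have hβ : β = (EtCoh.pullPushAdj p).unit.app _ ≫ (EtCoh.push p).map γ :=
    (((EtCoh.pullPushAdj p).homEquiv _ _).apply_symm_apply β).symm.trans (Adjunction.homEquiv_unit _ _ _ _)
  refine mem_range_Hpull_one j hu η ξ ?_
  have : (EtCoh.pull j).map η = β ≫ inv (EtCoh.baseChange0 π j p i hpb.w M) := by simp [β]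
  rw [this, hβ, Sheaf.H.map_comp_apply, Sheaf.H.map_comp_apply]
  erw [hT]
  rw [map_zero, map_zero]

end Closed

end Groth.Agent.HensH0
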