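import Groth.Agent.HensH0.Agree
import Groth.Agent.AICCover.Scheme
import Groth.Agent.SpectralLib.ClosedPoints

/-!
# Gluing local lifts of sections along a closed part

A map `η : F ⟶ G` of étale sheaves which is bijective near a closed set `Z` is bijective on global sections,
provided that every nonempty closed subset meets `Z` and that irreducible closed subsets of schemes integral
over `X` meet the preimage of `Z` in connected sets.
-/

set_option autoImplicit false
set_option linter.style.haveILetI false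
set_option backward.isDefEq.respectTransparency false
set_option backward.isDefEq.respectTransparency.types false

universe u
open CategoryTheory CategoryTheory.Limits AlgebraicGeometry Opposite TopologicalSpace
open scoped Topology

noncomputable section

namespace Groth.Agent.HensH0

variable {X : Scheme.{u}}

theorem spectralSpace_scheme (Y : Scheme.{u}) [CompactSpace Y] [QuasiSeparatedSpace Y] : SpectralSpace Y := {}

/-- The map to the top object. -/
def toTop (U : X.Etale) : U ⟶ EtCoh.top X := MorphismProperty.Over.homMk U.hom (Category.comp_id _)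

/-- Injectivity near `Z`. -/
def InjNear {F G : EtCoh.Ab X} (η : F ⟶ G) (Z : Set X) : Prop :=
  ∀ (U : X.Etale) (s t : EtCoh.sect F U), η.hom.app (op U) s = η.hom.app (op U) t →
    ∀ u : U.left, U.hom u ∈ Z → u ∈ EtPtsLib.agree F.obj s t

/-- Surjectivity near `Z`. -/
def SurjNear {F G : EtCoh.Ab X} (η : F ⟶ G) (Z : Set X) : Prop :=
  ∀ (U : X.Etale) (t : EtCoh.sect G U) (u : U.left), U.hom u ∈ Z →
    ∃ (W : X.Etale) (g : W ⟶ U) (w : W.left) (s : EtCoh.sect F W),
      g.left w = u ∧ η.hom.app (op W) s = G.obj.map g.op t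

/-- Connectedness of closed parts over integral schemes. -/
def ConnNear (Z : Set X) : Prop :=
  ∀ {X' : Scheme.{u}} (π : X' ⟶ X) [IsIntegralHom π] (x : X'),
    _root_.IsPreconnected (closure {x} ∩ π ⁻¹' Z)

variable {F G : EtCoh.Ab X} (η : F ⟶ G) (Z : Set X)

theorem naturality_apply {U W : X.Etale} (g : W ⟶ U) (s : EtCoh.sect F U) :
    η.hom.app (op W) (F.obj.map g.op s) = G.obj.map g.op (η.hom.app (op U) s) :=
  congr($(η.hom.naturality g.op) s)

variable {η Z}

theorem injective_top (hmeet : ∀ C : Set X, IsClosed C → C.Nonempty → (C ∩ Z).Nonempty) (hinj : InjNear η Z) :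
    Function.Injective (η.hom.app (op (EtCoh.top X))) := fun s t h => by
  refine eq_of_agree F fun p => ?_
  by_contra hp
  obtain ⟨z, hz, hzZ⟩ := hmeet (EtPtsLib.agree F.obj s t)ᶜ (EtPtsLib.isOpen_agree _ _ _).isClosed_compl ⟨p, hp⟩
  exact hz (hinj _ s t h z hzZ)

/-- Finitely many affine étale schemes covering `X` on which a section lifts. -/
theorem exists_local_lifts [CompactSpace X] [QuasiSeparatedSpace X] (hZ : IsClosed Z)
    (hmeet : ∀ C : Set X, IsClosed C → C.Nonempty → (C ∩ Z).Nonempty) (hsurj : SurjNear η Z)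
    (t : EtCoh.sect G (EtCoh.top X)) :
    ∃ (ι : Type u) (_ : Finite ι) (V : ι → X.Etale) (_ : ∀ i, IsAffine (V i).left) (f : ∀ i, EtCoh.sect F (V i)),
      (∀ i, η.hom.app (op (V i)) (f i) = G.obj.map (toTop (V i)).op t) ∧
      ∀ x : X, ∃ i, x ∈ Set.range (V i).hom := by
  have h : ∀ z : Z, ∃ (W : X.Etale) (_ : IsAffine W.left) (s : EtCoh.sect F W),
      η.hom.app (op W) s = G.obj.map (toTop W).op t ∧ z.1 ∈ Set.range W.hom := fun z => by
    obtain ⟨W, g, w, s, hw, hs⟩ := hsurj (EtCoh.top X) t z.1 z.2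
    obtain ⟨D, hD, hwD, -⟩ := exists_isAffineOpen_mem_and_subset (X := W.left) (x := w) (U := ⊤) trivial
    refine ⟨EtPtsLib.openSub W D, hD, F.obj.map (EtPtsLib.openIncl W D).op s, ?_, ⟨w, hwD⟩, ?_⟩
    · rw [naturality_apply, hs, ← Functor.map_comp_apply, ← op_comp,
        (EtCore.topIsTerminal X).hom_ext (EtPtsLib.openIncl W D ≫ g) (toTop _)]
    · show W.hom w = z.1
      rw [← MorphismProperty.Over.w g, Scheme.Hom.comp_apply]
      exact congrArg (fun u => (EtCoh.top X).hom u) hw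
  choose W hW s hs hz using h
  have hopen : ∀ z : Z, IsOpen (X := X) (Set.range (W z).hom) := fun z => by
    haveI : Etale (W z).hom := (W z).prop
    exact (W z).hom.isOpenMap.isOpen_range
  obtain ⟨T, hT⟩ := hZ.isCompact.elim_finite_subcover (fun z : Z => Set.range (W z).hom) hopen
    fun z hz' => Set.mem_iUnion.2 ⟨⟨z, hz'⟩, hz _⟩
  refine ⟨T, inferInstance, fun i => W i.1, fun i => hW i.1, fun i => s i.1, fun i => hs i.1, fun x => ?_⟩
  by_contra hx
  have hU : IsOpen (X := X) (⋃ i : T, Set.range (W i.1).hom) := isOpen_iUnion fun i : T => hopen i.1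
  obtain ⟨z, hz1, hz2⟩ := hmeet _ hU.isClosed_compl ⟨x, fun h => hx (Set.mem_iUnion.1 h)⟩
  obtain ⟨i, hi, hzi⟩ := Set.mem_iUnion₂.1 (hT hz2)
  exact hz1 (Set.mem_iUnion.2 ⟨⟨i, hi⟩, hzi⟩)

section

variable {ι : Type u} [Finite ι] (V : ι → X.Etale) (f : ∀ i, EtCoh.sect F (V i)) (Z)

/-- The points specializing into the preimage of `Z`. -/
def gen (i : ι) : Set (V i).left := {v | ∃ w, (V i).hom w ∈ Z ∧ v ⤳ w}

variable {V f Z}

/-- A common refinement over `X'`: sections of the covering near a point. -/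
theorem exists_section (hcov : ∀ x : X, ∃ i, x ∈ Set.range (V i).hom) (y : AICCover.cover X) :
    ∃ (k : ι) (U : (AICCover.cover X).Opens) (σ : U.toScheme ⟶ (V k).left),
      y ∈ U ∧ σ ≫ (V k).hom = U.ι ≫ AICCover.toBase X := by
  let S := ∐ fun i => (V i).left
  let g : S ⟶ X := Sigma.desc fun i => (V i).hom
  haveI : Etale g := IsZariskiLocalAtSource.sigmaDesc fun i => (V i).prop
  haveI : Surjective g := ⟨fun x => by
    obtain ⟨i, v, hv⟩ := hcov x
    refine ⟨Sigma.ι (fun i => (V i).left) i v, ?_⟩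
    rw [← Scheme.Hom.comp_apply, Sigma.ι_desc]
    exact hv⟩
  obtain ⟨U₀, r, hy, hr⟩ := AICCover.exists_factor X g y
  obtain ⟨k, v, hv⟩ : ∃ k v, Sigma.ι (fun i => (V i).left) k v = r ⟨y, hy⟩ :=
    ⟨((sigmaOpenCover (fun i => (V i).left)).exists_eq (r ⟨y, hy⟩)).choose,
      ((sigmaOpenCover (fun i => (V i).left)).exists_eq (r ⟨y, hy⟩)).choose_spec.choose,
      ((sigmaOpenCover (fun i => (V i).left)).exists_eq (r ⟨y, hy⟩)).choose_spec.choose_spec⟩
  let O : U₀.toScheme.Opens := r ⁻¹ᵁ (Sigma.ι (fun i => (V i).left) k).opensRange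
  let U : (AICCover.cover X).Opens := U₀.ι ''ᵁ O
  let e : U.toScheme ≅ O.toScheme := (U₀.ι.isoImage O).symm
  let σ : U.toScheme ⟶ (V k).left := IsOpenImmersion.lift (Sigma.ι (fun i => (V i).left) k) (e.hom ≫ O.ι ≫ r) (by
    rintro _ ⟨u, rfl⟩
    exact (e.hom u).2)
  refine ⟨k, U, σ, ⟨⟨y, hy⟩, ⟨v, hv⟩, rfl⟩, ?_⟩
  calc σ ≫ (V k).hom = (σ ≫ Sigma.ι (fun i => (V i).left) k) ≫ g := by rw [Category.assoc, Sigma.ι_desc]
    _ = (e.hom ≫ O.ι) ≫ U₀.ι ≫ AICCover.toBase X := by
      rw [IsOpenImmersion.lift_fac, Category.assoc, Category.assoc, hr]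
      simp
    _ = U.ι ≫ AICCover.toBase X := by
      rw [Category.assoc, ← Category.assoc O.ι, ← Category.assoc e.hom]
      congr 1
      exact Scheme.Hom.isoImage_inv_ι U₀.ι O

theorem mem_locus_of_mem_Z (hinj : InjNear η Z) {t : EtCoh.sect G (EtCoh.top X)}
    (hf : ∀ i, η.hom.app (op (V i)) (f i) = G.obj.map (toTop (V i)).op t) {i j : ι} {Y : Scheme.{u}}
    (a : Y ⟶ (V i).left) (b : Y ⟶ (V j).left) (w : a ≫ (V i).hom = b ≫ (V j).hom) (y : Y)
    (hy : (V i).hom (a y) ∈ Z) : y ∈ locus F (f i) (f j) a b w := by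
  refine hinj _ _ _ ?_ _ ?_
  · rw [naturality_apply, naturality_apply, hf, hf, ← Functor.map_comp_apply, ← Functor.map_comp_apply,
      ← op_comp, ← op_comp, (EtCore.topIsTerminal X).hom_ext (fst2 (V i) (V j) ≫ toTop _) (snd2 _ _ ≫ toTop _)]
  · show (pullback.fst (V i).hom (V j).hom ≫ (V i).hom) (pullback.lift a b w y) ∈ Z
    rw [← Scheme.Hom.comp_apply, pullback.lift_fst_assoc, Scheme.Hom.comp_apply]
    exact hy

/-- Lifts agree at pairs of points specializing into `Z`. -/
theorem agree_of_gen (hconn : ConnNear Z) (hinj : InjNear η Z) {t : EtCoh.sect G (EtCoh.top X)}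
    (hf : ∀ i, η.hom.app (op (V i)) (f i) = G.obj.map (toTop (V i)).op t)
    (hcov : ∀ x : X, ∃ i, x ∈ Set.range (V i).hom) {i j : ι} (p : (prod2 (V i) (V j)).left)
    (hi : (fst2 (V i) (V j)).left p ∈ gen Z V i) (hj : (snd2 (V i) (V j)).left p ∈ gen Z V j) :
    p ∈ pairAgree F (f i) (f j) := by
  let π := AICCover.toBase X
  let P := pullback π ((fst2 (V i) (V j)).left ≫ (V i).hom)
  haveI : Surjective (pullback.snd π ((fst2 (V i) (V j)).left ≫ (V i).hom)) :=
    MorphismProperty.pullback_snd _ _ inferInstance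
  obtain ⟨q, hq⟩ := (pullback.snd π ((fst2 (V i) (V j)).left ≫ (V i).hom)).surjective p
  let e₀ := P.fromSpecResidueField q
  let y₀ : Spec (P.residueField q) := IsLocalRing.closedPoint (P.residueField q)
  let ξ := e₀ ≫ pullback.fst π ((fst2 (V i) (V j)).left ≫ (V i).hom)
  let ep := e₀ ≫ pullback.snd π ((fst2 (V i) (V j)).left ≫ (V i).hom)
  let a := ep ≫ (fst2 (V i) (V j)).left
  let b := ep ≫ (snd2 (V i) (V j)).left
  have hep : ep y₀ = p := by
    rw [Scheme.Hom.comp_apply, Scheme.fromSpecResidueField_apply, hq]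
  have ha : a ≫ (V i).hom = ξ ≫ π := by simp [a, ξ, ep, pullback.condition]
  have hb : b ≫ (V j).hom = ξ ≫ π := by
    rw [← ha]
    simp only [a, b, Category.assoc]
    exact congrArg (ep ≫ ·) (MorphismProperty.Over.w (snd2 (V i) (V j)))
  suffices h : y₀ ∈ locus F (f i) (f j) a b (ha.trans hb.symm) by
    rw [← hep, pairAgree_eq_locus]
    exact (mem_locus_comp F (f i) (f j) ep _ _ pullback.condition a b _ rfl rfl y₀).1 h
  let x := ξ y₀
  -- a datum near a point of the closure of `x`, and its lift at `x`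
  let Dat := {d : Σ k : ι, Σ U : (AICCover.cover X).Opens, (U.toScheme ⟶ (V k).left) //
    x ∈ d.2.1 ∧ d.2.2 ≫ (V d.1).hom = d.2.1.ι ≫ π}
  let lft : ∀ d : Dat, Spec (P.residueField q) ⟶ d.1.2.1.toScheme := fun d =>
    IsOpenImmersion.lift d.1.2.1.ι ξ (by
      rintro _ ⟨z, rfl⟩
      rw [Scheme.Opens.range_ι, Subsingleton.elim (α := PrimeSpectrum (P.residueField q)) z y₀]
      exact d.2.1)
  have hlft : ∀ d : Dat, (lft d ≫ d.1.2.2) ≫ (V d.1.1).hom = ξ ≫ π := fun d => by
    rw [Category.assoc, d.2.2, ← Category.assoc, IsOpenImmersion.lift_fac]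
  let Good : ∀ (l : ι) (c : Spec (P.residueField q) ⟶ (V l).left) (_ : c ≫ (V l).hom = ξ ≫ π), Dat → Prop :=
    fun l c hc d => y₀ ∈ locus F (f l) (f d.1.1) c (lft d ≫ d.1.2.2) (hc.trans (hlft d).symm)
  have indep : ∀ (l : ι) (c : Spec (P.residueField q) ⟶ (V l).left) (hc : c ≫ (V l).hom = ξ ≫ π)
      (d d' : Dat) (y : AICCover.cover X), y ∈ d.1.2.1 → y ∈ d'.1.2.1 → π y ∈ Z → x ⤳ y →
        Good l c hc d → Good l c hc d' := by
    intro l c hc d d' y hy hy' hyZ hxy hd
    refine locus_trans F (f l) (f d.1.1) (f d'.1.1) c _ _ _ ((hlft d).trans (hlft d').symm) y₀ hd ?_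
    let U := d.1.2.1 ⊓ d'.1.2.1
    let a' := (AICCover.cover X).homOfLE (inf_le_left : U ≤ d.1.2.1) ≫ d.1.2.2
    let b' := (AICCover.cover X).homOfLE (inf_le_right : U ≤ d'.1.2.1) ≫ d'.1.2.2
    have w' : a' ≫ (V d.1.1).hom = b' ≫ (V d'.1.1).hom := by
      simp only [a', b', Category.assoc, d.2.2, d'.2.2, Scheme.homOfLE_ι_assoc]
    have hin : (⟨y, hy, hy'⟩ : U.toScheme) ∈ locus F (f d.1.1) (f d'.1.1) a' b' w' := by
      refine mem_locus_of_mem_Z hinj hf a' b' w' _ ?_
      show (a' ≫ (V d.1.1).hom) _ ∈ Z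
      rw [show a' ≫ (V d.1.1).hom = U.ι ≫ π by
        simp only [a', Category.assoc, d.2.2, Scheme.homOfLE_ι_assoc]; rfl]
      exact hyZ
    let eU : Spec (P.residueField q) ⟶ U.toScheme := IsOpenImmersion.lift U.ι ξ (by
      rintro _ ⟨z, rfl⟩
      rw [Scheme.Opens.range_ι, Subsingleton.elim (α := PrimeSpectrum (P.residueField q)) z y₀]
      exact ⟨d.2.1, d'.2.1⟩)
    have hs : eU y₀ ⤳ (⟨y, hy, hy'⟩ : U.toScheme) := by
      refine U.ι.isOpenEmbedding.isInducing.specializes_iff.1 ?_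
      rw [← Scheme.Hom.comp_apply, IsOpenImmersion.lift_fac]
      exact hxy
    refine (mem_locus_comp F _ _ eU a' b' w' _ _ _ ?_ ?_ y₀).2 (hs.mem_open (isOpen_locus F _ _ a' b' w') hin)
    · rw [← Category.assoc]; congr 1
      rw [← cancel_mono d.1.2.1.ι, Category.assoc, Scheme.homOfLE_ι, IsOpenImmersion.lift_fac,
        IsOpenImmersion.lift_fac]
    · rw [← Category.assoc]; congr 1
      rw [← cancel_mono d'.1.2.1.ι, Category.assoc, Scheme.homOfLE_ι, IsOpenImmersion.lift_fac,
        IsOpenImmersion.lift_fac]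
  let T : Set (AICCover.cover X) := closure {x} ∩ π ⁻¹' Z
  have hspec : ∀ y ∈ T, x ⤳ y := fun y hy => specializes_iff_mem_closure.2 hy.1
  have hdat : ∀ y ∈ T, ∃ d : Dat, y ∈ d.1.2.1 := fun y hy => by
    obtain ⟨k, U, σ, hyU, hσ⟩ := exists_section hcov y
    exact ⟨⟨⟨k, U, σ⟩, (hspec y hy).mem_open U.2 hyU, hσ⟩, hyU⟩
  -- a lift specializing into `Z` is good at some point, hence at all
  have key : ∀ (l : ι) (c : Spec (P.residueField q) ⟶ (V l).left) (hc : c ≫ (V l).hom = ξ ≫ π),
      c y₀ ∈ gen Z V l → T.Nonempty ∧ ∀ d : Dat, ∀ y ∈ T, y ∈ d.1.2.1 → Good l c hc d := by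
    intro l c hc hgen
    obtain ⟨w, hwZ, hcw⟩ := hgen
    let Pl := pullback π (V l).hom
    let el : Spec (P.residueField q) ⟶ Pl := pullback.lift ξ c hc.symm
    have himg : w ∈ pullback.snd π (V l).hom '' closure {el y₀} := by
      refine (pullback.snd π (V l).hom).isClosedMap _ isClosed_closure |>.closure_subset ?_
      refine closure_mono (Set.singleton_subset_iff.2 ?_) (specializes_iff_mem_closure.1 hcw)
      refine ⟨el y₀, subset_closure rfl, ?_⟩
      rw [← Scheme.Hom.comp_apply, pullback.lift_snd]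
      rfl
    obtain ⟨z, hz, hzw⟩ := himg
    have hez : el y₀ ⤳ z := specializes_iff_mem_closure.2 hz
    let y := pullback.fst π (V l).hom z
    have hxy : x ⤳ y := by
      have h := hez.map (pullback.fst π (V l).hom).continuous
      rw [← Scheme.Hom.comp_apply, pullback.lift_fst] at h
      exact h
    have hyT : y ∈ T := ⟨specializes_iff_mem_closure.1 hxy, by
      show π y ∈ Z
      rw [← Scheme.Hom.comp_apply, pullback.condition, Scheme.Hom.comp_apply, hzw]
      exact hwZ⟩
    obtain ⟨d₀, hd₀⟩ := hdat y hyT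
    let O : Pl.Opens := pullback.fst π (V l).hom ⁻¹ᵁ d₀.1.2.1
    let a' := O.ι ≫ pullback.snd π (V l).hom
    let m : O.toScheme ⟶ d₀.1.2.1.toScheme := pullback.fst π (V l).hom ∣_ d₀.1.2.1
    let b' := m ≫ d₀.1.2.2
    have w' : a' ≫ (V l).hom = b' ≫ (V d₀.1.1).hom := by
      simp only [a', b', m, Category.assoc, d₀.2.2, morphismRestrict_ι_assoc, pullback.condition]
      rfl
    have hin : (⟨z, hd₀⟩ : O.toScheme) ∈ locus F (f l) (f d₀.1.1) a' b' w' := by
      refine mem_locus_of_mem_Z hinj hf a' b' w' _ ?_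
      show (V l).hom (pullback.snd π (V l).hom z) ∈ Z
      rw [hzw]; exact hwZ
    let eO : Spec (P.residueField q) ⟶ O.toScheme := IsOpenImmersion.lift O.ι el (by
      rintro _ ⟨v, rfl⟩
      rw [Scheme.Opens.range_ι, Subsingleton.elim (α := PrimeSpectrum (P.residueField q)) v y₀]
      exact hez.mem_open O.2 hd₀)
    have hs : eO y₀ ⤳ (⟨z, hd₀⟩ : O.toScheme) := by
      refine O.ι.isOpenEmbedding.isInducing.specializes_iff.1 ?_
      rw [← Scheme.Hom.comp_apply, IsOpenImmersion.lift_fac]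
      exact hez
    have hgood : Good l c hc d₀ := by
      refine (mem_locus_comp F _ _ eO a' b' w' _ _ _ ?_ ?_ y₀).2 (hs.mem_open (isOpen_locus F _ _ a' b' w') hin)
      · rw [IsOpenImmersion.lift_fac_assoc, pullback.lift_snd]
      · rw [← Category.assoc]; congr 1
        rw [← cancel_mono d₀.1.2.1.ι, Category.assoc, morphismRestrict_ι, IsOpenImmersion.lift_fac,
          IsOpenImmersion.lift_fac_assoc, pullback.lift_fst]
    refine ⟨⟨y, hyT⟩, fun d y' hy' hyd => ?_⟩
    by_contra hbad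
    let Up : Set (AICCover.cover X) := ⋃ (d : Dat) (_ : Good l c hc d), (d.1.2.1 : Set _)
    let Un : Set (AICCover.cover X) := ⋃ (d : Dat) (_ : ¬ Good l c hc d), (d.1.2.1 : Set _)
    obtain ⟨y'', hy'', h1, h2⟩ := (hconn π x) Up Un (isOpen_iUnion fun d => isOpen_iUnion fun _ => d.1.2.1.2)
      (isOpen_iUnion fun d => isOpen_iUnion fun _ => d.1.2.1.2)
      (fun v hv => by
        obtain ⟨e, he⟩ := hdat v hv
        by_cases hg : Good l c hc e
        · exact Or.inl (Set.mem_iUnion₂.2 ⟨e, hg, he⟩)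
        · exact Or.inr (Set.mem_iUnion₂.2 ⟨e, hg, he⟩))
      ⟨y, hyT, Set.mem_iUnion₂.2 ⟨d₀, hgood, hd₀⟩⟩ ⟨y', hy', Set.mem_iUnion₂.2 ⟨d, hbad, hyd⟩⟩
    obtain ⟨e, he, hye⟩ := Set.mem_iUnion₂.1 h1
    obtain ⟨e', he', hye'⟩ := Set.mem_iUnion₂.1 h2
    exact he' (indep l c hc e e' y'' hye hye' hy''.2 (hspec y'' hy'') he)
  obtain ⟨⟨y, hy⟩, hgi⟩ := key i a ha (by rw [Scheme.Hom.comp_apply, hep]; exact hi)
  obtain ⟨-, hgj⟩ := key j b hb (by rw [Scheme.Hom.comp_apply, hep]; exact hj)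
  obtain ⟨d, hd⟩ := hdat y hy
  exact locus_trans F (f i) (f d.1.1) (f j) a _ b _ ((hlft d).trans hb.symm) y₀ (hgi d y hy hd)
    (locus_symm F (f j) (f d.1.1) b _ _ y₀ (hgj d y hy hd))

end

theorem surjective_top [CompactSpace X] [QuasiSeparatedSpace X] (hZ : IsClosed Z)
    (hmeet : ∀ C : Set X, IsClosed C → C.Nonempty → (C ∩ Z).Nonempty) (hconn : ConnNear Z)
    (hinj : InjNear η Z) (hsurj : SurjNear η Z) :
    Function.Surjective (η.hom.app (op (EtCoh.top X))) := fun t => by
  obtain ⟨ι, _, V, hV, f, hf, hcov⟩ := exists_local_lifts hZ hmeet hsurj t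
  haveI hEt : ∀ i, Etale (V i).hom := fun i => (V i).prop
  haveI : ∀ i, IsAffine ((𝟭 Scheme.{u}).obj (V i).left) := hV
  haveI : ∀ i, CompactSpace ↥((𝟭 Scheme.{u}).obj (V i).left) := fun i => inferInstance
  haveI : ∀ i, QuasiSeparatedSpace ↥((𝟭 Scheme.{u}).obj (V i).left) := fun i => inferInstance
  haveI : ∀ i, QuasiSeparatedSpace ↥((Functor.fromPUnit X).obj (V i).right) := fun _ => ‹QuasiSeparatedSpace X›
  haveI : ∀ i, QuasiCompact (V i).hom := fun i => quasiCompact_of_compactSpace _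
  have hqs : ∀ i j, CompactSpace (prod2 (V i) (V j)).left ∧ QuasiSeparatedSpace (prod2 (V i) (V j)).left := fun i j => by
    haveI : QuasiCompact (pullback.fst (V i).hom (V j).hom) := MorphismProperty.pullback_fst _ _ inferInstance
    haveI : QuasiSeparated (V j).hom := QuasiSeparated.of_quasiSeparatedSpace _
    haveI : QuasiSeparated (pullback.fst (V i).hom (V j).hom) := MorphismProperty.pullback_fst _ _ inferInstance
    exact ⟨QuasiCompact.compactSpace_of_compactSpace (pullback.fst (V i).hom (V j).hom),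
      quasiSeparatedSpace_of_quasiSeparated (pullback.fst (V i).hom (V j).hom)⟩
  haveI : ∀ i, SpectralSpace (V i).left := fun i => spectralSpace_scheme _
  haveI : ∀ i j, SpectralSpace (prod2 (V i) (V j)).left := fun i j =>
    haveI := (hqs i j).1; haveI := (hqs i j).2; spectralSpace_scheme _
  have hgenC : ∀ i, IsClosed[constructibleTopology (V i).left] (gen Z V i) := fun i =>
    SpectralLib.isClosed_C_generalizations (hZ.preimage (V i).hom.continuous)
  -- the bad points
  let B : ∀ i, Set (V i).left := fun i => ⋃ j, (fst2 (V i) (V j)).left ''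
    ((pairAgree F (f i) (f j))ᶜ ∩ (snd2 (V i) (V j)).left ⁻¹' gen Z V j)
  have hsp1 : ∀ i j, IsSpectralMap (fst2 (V i) (V j)).left := fun i j =>
    haveI := (hqs i j).1
    haveI : QuasiCompact (fst2 (V i) (V j)).left := quasiCompact_of_compactSpace _
    Scheme.Hom.isSpectralMap _
  have hsp2 : ∀ i j, IsSpectralMap (snd2 (V i) (V j)).left := fun i j =>
    haveI := (hqs i j).1
    haveI : QuasiCompact (snd2 (V i) (V j)).left := quasiCompact_of_compactSpace _
    Scheme.Hom.isSpectralMap _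
  have hBC : ∀ i, IsClosed[constructibleTopology (V i).left] (B i) := fun i => by
    refine @isClosed_iUnion_of_finite _ ι (constructibleTopology (V i).left) _ _ fun j => ?_
    refine @IsCompact.isClosed _ (constructibleTopology (V i).left) SpectralLib.t2Space_C _ ?_
    refine @IsCompact.image _ _ (constructibleTopology _) (constructibleTopology _) _ _ ?_
      (SpectralLib.continuous_C (hsp1 i j))
    refine SpectralLib.isCompact_C_of_isClosed ?_
    exact @IsClosed.inter _ _ _ (constructibleTopology _)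
      (SpectralLib.isClosed_C_of_isClosed (isOpen_pairAgree F (f i) (f j)).isClosed_compl)
      (@IsClosed.preimage _ _ (constructibleTopology _) (constructibleTopology _) _
        (SpectralLib.continuous_C (hsp2 i j)) _ (hgenC j))
  let V' : ∀ i, (V i).left.Opens := fun i => ⟨(closure (B i))ᶜ, isClosed_closure.isOpen_compl⟩
  have hgen : ∀ i, gen Z V i ⊆ (V' i : Set (V i).left) := fun i v ⟨w, hw, hvw⟩ hv => by
    obtain ⟨b, hb, hbv⟩ := SpectralLib.exists_specializes_of_mem_closure (hBC i) hv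
    obtain ⟨j, p, ⟨hp, hpj⟩, rfl⟩ := Set.mem_iUnion.1 hb
    exact hp (agree_of_gen hconn hinj hf hcov p ⟨w, hw, hbv.trans hvw⟩ hpj)
  have hsurX : ∀ x : X, ∃ i, ∃ v ∈ gen Z V i, (V i).hom v = x := fun x => by
    obtain ⟨z, hz, hzZ⟩ := hmeet (closure {x}) isClosed_closure ⟨x, subset_closure rfl⟩
    obtain ⟨i, w, hw⟩ := hcov z
    obtain ⟨v, hvw, hv⟩ := Flat.generalizingMap (f := (V i).hom)
      (show x ⤳ (V i).hom w from hw ▸ specializes_iff_mem_closure.2 hz)
    exact ⟨i, v, ⟨w, hw ▸ hzZ, hvw⟩, hv⟩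
  have hagree : ∀ i j (p : (prod2 (V i) (V j)).left), (fst2 (V i) (V j)).left p ∈ V' i →
      (snd2 (V i) (V j)).left p ∈ V' j → p ∈ pairAgree F (f i) (f j) := by
    intro i j p hpi hpj
    obtain ⟨k, v, hv, hvx⟩ := hsurX ((prod2 (V i) (V j)).hom p)
    obtain ⟨T, hT1, hT2⟩ := Scheme.Pullback.exists_preimage_pullback (f := (prod2 (V i) (V j)).hom)
      (g := (V k).hom) p v hvx.symm
    let q₁ : pullback (prod2 (V i) (V j)).hom (V k).hom ⟶ (prod2 (V i) (V j)).left := pullback.fst _ _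
    let a := q₁ ≫ (fst2 (V i) (V j)).left
    let b := q₁ ≫ (snd2 (V i) (V j)).left
    let c : pullback (prod2 (V i) (V j)).hom (V k).hom ⟶ (V k).left := pullback.snd _ _
    have wac : a ≫ (V i).hom = c ≫ (V k).hom := by
      simp only [a, c, q₁, Category.assoc, MorphismProperty.Over.w, pullback.condition]
    have wbc : b ≫ (V j).hom = c ≫ (V k).hom := by
      simp only [b, c, q₁, Category.assoc, MorphismProperty.Over.w, pullback.condition]
    have one : ∀ (l : ι) (a : pullback (prod2 (V i) (V j)).hom (V k).hom ⟶ (V l).left)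
        (w : a ≫ (V l).hom = c ≫ (V k).hom), a T ∈ V' l → T ∈ locus F (f l) (f k) a c w := by
      intro l a w ha
      by_contra h
      refine ha (subset_closure (Set.mem_iUnion.2 ⟨k, pullback.lift a c w T, ⟨h, ?_⟩, ?_⟩))
      · show pullback.snd (V l).hom (V k).hom (pullback.lift a c w T) ∈ gen Z V k
        rw [← Scheme.Hom.comp_apply, pullback.lift_snd, hT2]
        exact hv
      · show pullback.fst (V l).hom (V k).hom (pullback.lift a c w T) = a T
        rw [← Scheme.Hom.comp_apply, pullback.lift_fst]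
        rfl
    replace hT1 : q₁ T = p := hT1
    have h1 := one i a wac (by rw [Scheme.Hom.comp_apply, hT1]; exact hpi)
    have h2 := one j b wbc (by rw [Scheme.Hom.comp_apply, hT1]; exact hpj)
    have h3 := locus_trans F (f i) (f k) (f j) a c b wac wbc.symm T h1 (locus_symm F (f j) (f k) b c wbc T h2)
    rw [pairAgree_eq_locus, ← hT1]
    exact (mem_locus_comp F (f i) (f j) q₁ _ _ pullback.condition a b _ rfl rfl T).1 h3
  -- gluing
  let S : ι → X.Etale := fun i => EtPtsLib.openSub (V i) (V' i)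
  let ρ : ∀ i, S i ⟶ EtCoh.top X := fun i => toTop _
  have hcov' : ∀ x : X, ∃ (i : ι) (v : (S i).left), (ρ i).left v = x := fun x => by
    obtain ⟨i, v, hv, hvx⟩ := hsurX x
    exact ⟨i, ⟨v, hgen i hv⟩, hvx⟩
  have hR : Sieve.generate (Presieve.ofArrows S ρ) ∈ X.smallEtaleTopology (EtCoh.top X) :=
    EtPtsLib.covering_of_points _ fun x => by
      obtain ⟨i, v, hv⟩ := hcov' x
      exact ⟨_, ρ i, v, Sieve.le_generate _ _ _ (Presieve.ofArrows.mk i), hv⟩
  have hs : Presieve.IsSheafFor (F.obj ⋙ forget AddCommGrpCat.{u + 1}) (Presieve.ofArrows S ρ) :=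
    (Presieve.isSheafFor_iff_generate _).2 ((isSheaf_iff_isSheaf_of_type _ _).1
      ((sheafCompose X.smallEtaleTopology (forget AddCommGrpCat.{u + 1})).obj F).property _ hR)
  obtain ⟨s, hs', -⟩ := (Presieve.isSheafFor_arrows_iff _ _).1 hs
    (fun i => F.obj.map (EtPtsLib.openIncl (V i) (V' i)).op (f i)) fun i j W gi gj _ => by
      show F.obj.map gi.op (F.obj.map _ (f i)) = F.obj.map gj.op (F.obj.map _ (f j))
      rw [← Functor.map_comp_apply, ← Functor.map_comp_apply, ← op_comp, ← op_comp]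
      refine eq_of_agree F fun w => (mem_agree_iff_locus F (f i) (f j) _ _ w).2 (hagree i j _ ?_ ?_)
      · show (pullback.lift _ _ _ ≫ pullback.fst (V i).hom (V j).hom) w ∈ V' i
        rw [pullback.lift_fst]
        exact (gi.left w).2
      · show (pullback.lift _ _ _ ≫ pullback.snd (V i).hom (V j).hom) w ∈ V' j
        rw [pullback.lift_snd]
        exact (gj.left w).2
  refine ⟨s, EtPtsLib.sect_eq_of_cover ((sheafCompose X.smallEtaleTopology (forget AddCommGrpCat.{u + 1})).obj G)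
    (EtCoh.top X) _ _ fun x => ?_⟩
  obtain ⟨i, v, hv⟩ := hcov' x
  refine ⟨S i, ρ i, v, hv, ?_⟩
  show G.obj.map (ρ i).op (η.hom.app (op (EtCoh.top X)) s) = G.obj.map (ρ i).op t
  rw [← naturality_apply, show F.obj.map (ρ i).op s = _ from hs' i, naturality_apply, hf,
    ← Functor.map_comp_apply, ← op_comp,
    (EtCore.topIsTerminal X).hom_ext (EtPtsLib.openIncl (V i) (V' i) ≫ toTop _) (ρ i)]

theorem bijective_top [CompactSpace X] [QuasiSeparatedSpace X] (hZ : IsClosed Z)
    (hmeet : ∀ C : Set X, IsClosed C → C.Nonempty → (C ∩ Z).Nonempty) (hconn : ConnNear Z)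
    (hinj : InjNear η Z) (hsurj : SurjNear η Z) :
    Function.Bijective (η.hom.app (op (EtCoh.top X))) :=
  ⟨injective_top hmeet hinj, surjective_top hZ hmeet hconn hinj hsurj⟩

end Groth.Agent.HensH0
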