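import Groth.Agent.HensH0.Conn
import Groth.Agent.SpectralLib.ClosedPoints
import Groth.Agent.ShSetLib

/-!
# Zariski sections over henselian couples

On a spectral space, if every nonempty closed set meets the closed set `Z` and every irreducible closed set
meets it in a connected set, then sheaves of sets have the same global sections on the space and on `Z`.
-/

set_option autoImplicit false
set_option linter.style.haveILetI false
set_option backward.isDefEq.respectTransparency false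
set_option backward.isDefEq.respectTransparency.types false

universe u
open CategoryTheory CategoryTheory.Limits TopologicalSpace Opposite Topology

noncomputable section

namespace Groth.Agent.HensH0

theorem isClosed_C_generalizations_of_isCompact {X : Type u} [TopologicalSpace X] [SpectralSpace X] {K : Set X}
    (hK : IsCompact K) : IsClosed[constructibleTopology X] {x | ∃ z ∈ K, x ⤳ z} := by
  let ι := {U : Set X // IsOpen U ∧ IsCompact U ∧ K ⊆ U}
  have : {x | ∃ z ∈ K, x ⤳ z} = ⋂ U : ι, U.1 := by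
    ext x
    refine ⟨fun ⟨z, hz, hxz⟩ => Set.mem_iInter.2 fun U => hxz.mem_open U.2.1 (U.2.2.2 hz), fun hx => ?_⟩
    by_contra hn
    have hn' : ∀ z ∈ K, ∃ U : Set X, IsOpen U ∧ IsCompact U ∧ z ∈ U ∧ x ∉ U := fun z hz => by
      by_contra h
      exact hn ⟨z, hz, SpectralLib.specializes_of_forall_compactOpen fun U ho hc hzU => by
        by_contra hxU
        exact h ⟨U, ho, hc, hzU, hxU⟩⟩
    choose! U ho hc hzU hxU using hn'
    obtain ⟨t, htK, hfin, ht⟩ := hK.elim_finite_subcover_image (b := K) (c := U) ho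
      (fun z hz => Set.mem_iUnion₂.2 ⟨z, hz, hzU z hz⟩)
    obtain ⟨i, hi, hxi⟩ := Set.mem_iUnion₂.1 (Set.mem_iInter.1 hx ⟨⋃ z ∈ t, U z,
      isOpen_biUnion fun z hz => ho z (htK hz), hfin.isCompact_biUnion fun z hz => hc z (htK hz), ht⟩)
    exact hxU i (htK hi) hxi
  rw [this]
  exact @isClosed_iInter X ι (constructibleTopology X) _ fun U => SpectralLib.isClosed_C_of_compactOpen U.2.1 U.2.2.1

/-- A map of sheaves of sets with bijective stalks on `Z` is bijective on global sections. -/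
theorem bijective_top_zariski {X : TopCat.{u}} [SpectralSpace X] {Z : Set X} (hZ : IsClosed Z)
    (hmeet : ∀ x : X, (closure {x} ∩ Z).Nonempty) (hconn : ∀ x : X, _root_.IsPreconnected (closure {x} ∩ Z))
    {F G : X.Sheaf (Type u)} (η : F ⟶ G)
    (hη : ∀ z ∈ Z, Function.Bijective ((TopCat.Presheaf.stalkFunctor (Type u) z).map η.hom)) :
    Function.Bijective (η.hom.app (op ⊤)) := by
  classical
  have gen_open : ∀ {U : Opens X} {x z : X}, x ⤳ z → z ∈ U → x ∈ U := fun {U _ _} h hz => h.mem_open U.2 hz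
  have hnat : ∀ {U V : Opens X} (h : V ≤ U) (s : F.obj.obj (op U)),
      η.hom.app (op V) (F.obj.map (homOfLE h).op s) = G.obj.map (homOfLE h).op (η.hom.app (op U) s) :=
    fun h s => congr($(η.hom.naturality (homOfLE h).op) s)
  -- germs at generalisations
  have spread : ∀ {U V : Opens X} (s : F.obj.obj (op U)) (t : F.obj.obj (op V)) {x z : X} (hxz : x ⤳ z)
      (hU : z ∈ U) (hV : z ∈ V), F.presheaf.germ U z hU s = F.presheaf.germ V z hV t →
        F.presheaf.germ U x (gen_open hxz hU) s = F.presheaf.germ V x (gen_open hxz hV) t := by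
    intro U V s t x z hxz hU hV h
    obtain ⟨O, hO, i₁, i₂, hO'⟩ := TopCat.Presheaf.germ_eq F.presheaf z hU hV s t h
    rw [← TopCat.Presheaf.germ_res_apply F.presheaf i₁ x (gen_open hxz hO) s,
      ← TopCat.Presheaf.germ_res_apply F.presheaf i₂ x (gen_open hxz hO) t, hO']
  constructor
  · intro s t h
    refine TopCat.Presheaf.section_ext F _ _ _ fun x hx => ?_
    obtain ⟨z, hzx, hz⟩ := hmeet x
    refine spread s t (specializes_iff_mem_closure.2 hzx) trivial trivial ((hη z hz).1 ?_)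
    refine (TopCat.Presheaf.stalkFunctor_map_germ_apply ⊤ z trivial η.hom s).trans
      (Eq.trans ?_ (TopCat.Presheaf.stalkFunctor_map_germ_apply ⊤ z trivial η.hom t).symm)
    rw [h]
  intro t
  -- local lifts
  have hloc : ∀ z : Z, ∃ (U : Opens X) (f : F.obj.obj (op U)), z.1 ∈ U ∧ IsCompact (U : Set X) ∧
      η.hom.app (op U) f = G.obj.map (homOfLE (le_top : U ≤ ⊤)).op t := fun z => by
    obtain ⟨a, ha⟩ := (hη z.1 z.2).2 (G.presheaf.germ ⊤ z.1 trivial t)
    obtain ⟨U, hU, s, rfl⟩ := TopCat.Presheaf.exists_germ_eq F.presheaf a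
    obtain ⟨O, hO, i₁, i₂, hO'⟩ := TopCat.Presheaf.germ_eq G.presheaf (V := ⊤) z.1 hU trivial _ _
      ((TopCat.Presheaf.stalkFunctor_map_germ_apply _ z.1 hU η.hom s).symm.trans ha)
    obtain ⟨W, ⟨hWo, hWc⟩, hzW, hWO⟩ :=
      PrespectralSpace.isTopologicalBasis.exists_subset_of_mem_open (show z.1 ∈ (O : Set X) from hO) O.2
    let W' : Opens X := ⟨W, hWo⟩
    refine ⟨W', F.obj.map (homOfLE (show W' ≤ U from fun y hy => i₁.le (hWO hy))).op s, hzW, hWc, ?_⟩
    rw [hnat]
    have h := congrArg (G.obj.map (homOfLE (show W' ≤ O from hWO)).op) hO'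
    rwa [← Functor.map_comp_apply, ← Functor.map_comp_apply, ← op_comp, ← op_comp] at h
  choose U f hzU hUc hf using hloc
  obtain ⟨T, hT⟩ := hZ.isCompact.elim_finite_subcover (fun z : Z => (U z : Set X)) (fun z => (U z).2)
    fun z hz => Set.mem_iUnion.2 ⟨⟨z, hz⟩, hzU _⟩
  let g : ∀ i : T, F.obj.obj (op (U i.1)) := fun i => f i.1
  let gen : T → Set X := fun i => {x | ∃ z ∈ Z ∩ (U i.1 : Set X), x ⤳ z}
  have hgenU : ∀ i x, x ∈ gen i → x ∈ U i.1 := fun i x ⟨z, hz, hxz⟩ => gen_open hxz hz.2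
  have hsame : ∀ (i j : T) {x z : X} (hxz : x ⤳ z), z ∈ Z → ∀ (hi : z ∈ U i.1) (hj : z ∈ U j.1),
      F.presheaf.germ _ x (gen_open hxz hi) (g i) = F.presheaf.germ _ x (gen_open hxz hj) (g j) := by
    intro i j x z hxz hz hi hj
    refine spread (g i) (g j) hxz hi hj ((hη z hz).1 ?_)
    refine (TopCat.Presheaf.stalkFunctor_map_germ_apply _ z hi η.hom (g i)).trans
      (Eq.trans ?_ (TopCat.Presheaf.stalkFunctor_map_germ_apply _ z hj η.hom (g j)).symm)
    rw [hf, hf, TopCat.Presheaf.germ_res_apply, TopCat.Presheaf.germ_res_apply]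
  have hcov : ∀ x : X, ∃ i : T, x ∈ gen i := fun x => by
    obtain ⟨z, hzx, hz⟩ := hmeet x
    obtain ⟨i, hi, hzi⟩ := Set.mem_iUnion₂.1 (hT hz)
    exact ⟨⟨i, hi⟩, z, ⟨hz, hzi⟩, specializes_iff_mem_closure.2 hzx⟩
  have agree : ∀ (i j : T) (x : X) (hi : x ∈ gen i) (hj : x ∈ gen j),
      F.presheaf.germ _ x (hgenU i x hi) (g i) = F.presheaf.germ _ x (hgenU j x hj) (g j) := by
    intro i j x hi hj
    by_contra hne
    let Up : Set X := ⋃ (k : T) (hk : x ∈ U k.1)
      (_ : F.presheaf.germ _ x (hgenU i x hi) (g i) = F.presheaf.germ _ x hk (g k)), (U k.1 : Set X)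
    let Un : Set X := ⋃ (k : T) (hk : x ∈ U k.1)
      (_ : F.presheaf.germ _ x (hgenU i x hi) (g i) ≠ F.presheaf.germ _ x hk (g k)), (U k.1 : Set X)
    obtain ⟨zi, ⟨hzi, hzi'⟩, hxi⟩ := hi
    obtain ⟨zj, ⟨hzj, hzj'⟩, hxj⟩ := hj
    obtain ⟨y, hy, h1, h2⟩ := hconn x Up Un
      (isOpen_iUnion fun k => isOpen_iUnion fun _ => isOpen_iUnion fun _ => (U k.1).2)
      (isOpen_iUnion fun k => isOpen_iUnion fun _ => isOpen_iUnion fun _ => (U k.1).2)
      (fun y hy => by
        obtain ⟨k, hk, hyk⟩ := Set.mem_iUnion₂.1 (hT hy.2)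
        let k' : T := ⟨k, hk⟩
        have hxk : x ∈ U k'.1 := gen_open (specializes_iff_mem_closure.2 hy.1) hyk
        by_cases h : F.presheaf.germ _ x (hgenU i x ⟨zi, ⟨hzi, hzi'⟩, hxi⟩) (g i) = F.presheaf.germ _ x hxk (g k')
        · exact Or.inl (Set.mem_iUnion.2 ⟨k', Set.mem_iUnion.2 ⟨hxk, Set.mem_iUnion.2 ⟨h, hyk⟩⟩⟩)
        · exact Or.inr (Set.mem_iUnion.2 ⟨k', Set.mem_iUnion.2 ⟨hxk, Set.mem_iUnion.2 ⟨h, hyk⟩⟩⟩))
      ⟨zi, ⟨specializes_iff_mem_closure.1 hxi, hzi⟩,
        Set.mem_iUnion.2 ⟨i, Set.mem_iUnion.2 ⟨gen_open hxi hzi', Set.mem_iUnion.2 ⟨rfl, hzi'⟩⟩⟩⟩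
      ⟨zj, ⟨specializes_iff_mem_closure.1 hxj, hzj⟩,
        Set.mem_iUnion.2 ⟨j, Set.mem_iUnion.2 ⟨gen_open hxj hzj', Set.mem_iUnion.2 ⟨hne, hzj'⟩⟩⟩⟩
    obtain ⟨k, h1⟩ := Set.mem_iUnion.1 h1
    obtain ⟨hk, h1⟩ := Set.mem_iUnion.1 h1
    obtain ⟨hgood, hyk⟩ := Set.mem_iUnion.1 h1
    obtain ⟨l, h2⟩ := Set.mem_iUnion.1 h2
    obtain ⟨hl, h2⟩ := Set.mem_iUnion.1 h2
    obtain ⟨hbad, hyl⟩ := Set.mem_iUnion.1 h2
    exact hbad (hgood.trans (hsame k l (specializes_iff_mem_closure.2 hy.1) hy.2 hyk hyl))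
  -- the bad points
  let D : T → T → Set X := fun i j =>
    {x | ∃ (hi : x ∈ U i.1) (hj : x ∈ U j.1), F.presheaf.germ _ x hi (g i) = F.presheaf.germ _ x hj (g j)}
  have hD : ∀ i j, IsOpen (D i j) := fun i j => isOpen_iff_forall_mem_open.2 fun x ⟨hi, hj, h⟩ => by
    obtain ⟨O, hO, i₁, i₂, hO'⟩ := TopCat.Presheaf.germ_eq F.presheaf x hi hj _ _ h
    refine ⟨O, fun y hy => ⟨i₁.le hy, i₂.le hy, ?_⟩, O.2, hO⟩
    rw [← TopCat.Presheaf.germ_res_apply F.presheaf i₁ y hy, ← TopCat.Presheaf.germ_res_apply F.presheaf i₂ y hy, hO']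
  let B : T → Set X := fun i => ⋃ j : T, ((U i.1 : Set X) ∩ (U j.1 : Set X) ∩ (D i j)ᶜ) ∩ gen j
  have hBC : ∀ i, IsClosed[constructibleTopology X] (B i) := fun i =>
    @isClosed_iUnion_of_finite X T (constructibleTopology X) _ _ fun j =>
      @IsClosed.inter X _ _ (constructibleTopology X)
        (@IsClosed.inter X _ _ (constructibleTopology X)
          (@IsClosed.inter X _ _ (constructibleTopology X) (SpectralLib.isClosed_C_of_compactOpen (U i.1).2 (hUc _))
            (SpectralLib.isClosed_C_of_compactOpen (U j.1).2 (hUc _)))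
          (SpectralLib.isClosed_C_of_isClosed (hD i j).isClosed_compl))
        (isClosed_C_generalizations_of_isCompact ((hUc j.1).inter_left hZ))
  let U' : T → Opens X := fun i => ⟨(U i.1 : Set X) \ closure (B i), (U i.1).2.sdiff isClosed_closure⟩
  have hgen : ∀ i x, x ∈ gen i → x ∈ U' i := fun i x hx => ⟨hgenU i x hx, fun hc => by
    obtain ⟨b, hb, hbx⟩ := SpectralLib.exists_specializes_of_mem_closure (hBC i) hc
    obtain ⟨j, ⟨⟨-, hbD⟩, hbj⟩⟩ := Set.mem_iUnion.1 hb
    obtain ⟨z, hz, hxz⟩ := hx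
    exact hbD ⟨_, _, agree i j b ⟨z, hz, hbx.trans hxz⟩ hbj⟩⟩
  have hU'le : ∀ i, U' i ≤ U i.1 := fun i => Set.sdiff_subset
  have hcompat : TopCat.Presheaf.IsCompatible F.obj U' fun i => F.obj.map (homOfLE (hU'le i)).op (g i) := by
    intro i j
    refine TopCat.Presheaf.section_ext F _ _ _ fun x hx => ?_
    rw [TopCat.Presheaf.germ_res_apply, TopCat.Presheaf.germ_res_apply, TopCat.Presheaf.germ_res_apply,
      TopCat.Presheaf.germ_res_apply]
    obtain ⟨k, hk⟩ := hcov x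
    have key : ∀ (l : T) (hl : x ∈ U' l),
        F.presheaf.germ _ x (hU'le l hl) (g l) = F.presheaf.germ _ x (hgenU k x hk) (g k) := fun l hl => by
      by_contra h
      exact hl.2 (subset_closure (Set.mem_iUnion.2 ⟨k, ⟨⟨hl.1, hgenU k x hk⟩, fun ⟨_, _, h'⟩ => h h'⟩, hk⟩))
    exact (key i hx.1).trans (key j hx.2).symm
  obtain ⟨s, hs, -⟩ := F.existsUnique_gluing' U' ⊤ (fun i => homOfLE le_top)
    (fun x _ => by
      obtain ⟨i, hi⟩ := hcov x
      exact Opens.mem_iSup.2 ⟨i, hgen i x hi⟩) _ hcompat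
  refine ⟨s, TopCat.Presheaf.section_ext G _ _ _ fun x _ => ?_⟩
  obtain ⟨i, hi⟩ := hcov x
  rw [← TopCat.Presheaf.germ_res_apply G.presheaf (homOfLE (le_top : U' i ≤ ⊤)) x (hgen i x hi) t,
    ← TopCat.Presheaf.germ_res_apply G.presheaf (homOfLE (le_top : U' i ≤ ⊤)) x (hgen i x hi)]
  congr 1
  refine (hnat (le_top : U' i ≤ ⊤) s).symm.trans ?_
  rw [show F.obj.map (homOfLE (le_top : U' i ≤ ⊤)).op s = _ from hs i, hnat, hf, ← Functor.map_comp_apply,
    ← op_comp]
  rfl

/-- Sections on a proper scheme over a henselian pair are sections on the closed part, for the Zariski topology. -/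
theorem bijective_unit_top_zariski {A : Type u} [CommRing A] (I : Ideal A) [HenselianRing A I]
    {X : AlgebraicGeometry.Scheme.{u}} (f : X ⟶ AlgebraicGeometry.Spec (CommRingCat.of A))
    [AlgebraicGeometry.IsProper f] {Z : Set X} (hZ : Z = Set.range (pullback.fst f
      (AlgebraicGeometry.Spec.map (CommRingCat.ofHom (Ideal.Quotient.mk I)))))
    (hclosed : IsClosed Z) (hmeet : ∀ x : X, (closure {x} ∩ Z).Nonempty) (F : TopCat.Sheaf (Type u) X.carrier) :
    Function.Bijective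
      (((TopCat.Sheaf.pullbackPushforwardAdjunction (Type u)
        (TopCat.ofHom ⟨(Subtype.val : Z → X), continuous_subtype_val⟩)).unit.app F).hom.app (op ⊤)) := by
  haveI : CompactSpace ↥X := AlgebraicGeometry.QuasiCompact.compactSpace_of_compactSpace f
  haveI : QuasiSeparatedSpace ↥X := AlgebraicGeometry.quasiSeparatedSpace_of_quasiSeparated f
  haveI : SpectralSpace X.carrier := {}
  let i : TopCat.of Z ⟶ X.carrier := TopCat.ofHom ⟨(Subtype.val : Z → X), continuous_subtype_val⟩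
  let adj := TopCat.Sheaf.pullbackPushforwardAdjunction (Type u) i
  refine bijective_top_zariski hclosed hmeet (fun x => ?_) (adj.unit.app F) fun z hz => ?_
  · subst hZ
    exact isPreconnected_closure_inter I f (CategoryStruct.id X) x
  · haveI : IsIso adj.counit := ShSetLib.isIso_counit IsInducing.subtypeVal
    haveI : IsIso ((TopCat.Sheaf.pullback (Type u) i).map (adj.unit.app F)) :=
      haveI : IsIso (𝟙 ((TopCat.Sheaf.pullback (Type u) i).obj F)) := IsIso.id _
      IsIso.of_isIso_fac_right (adj.left_triangle_components F)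
    haveI := ShSetLib.isIso_stalk_map i adj (adj.unit.app F) ⟨z, hz⟩
    exact ConcreteCategory.bijective_of_isIso ((TopCat.Presheaf.stalkFunctor (Type u) z).map (adj.unit.app F).hom)

end Groth.Agent.HensH0
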