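import Groth.Agent.HensH0.Unit
import Groth.Agent.HensH0.Conn
import Groth.Agent.HensH0.Zariski
import Mathlib.Topology.Sheaves.SheafOfFunctions

/-!
# Gabber's criterion for global sections

If sheaves of sets on every finite scheme over `X` have the same sections on the space and on the preimage of a
closed subscheme `Z`, then the same holds for etale sheaves on `X`.
-/

set_option autoImplicit false
set_option linter.style.haveILetI false
set_option backward.isDefEq.respectTransparency false
set_option backward.isDefEq.respectTransparency.types false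
set_option linter.unusedSectionVars false

universe u
open CategoryTheory CategoryTheory.Limits AlgebraicGeometry Opposite TopologicalSpace

noncomputable section

namespace Groth.Agent.HensH0

section Top

variable {T : TopCat.{u}} {Z : Set T}
  (h : ∀ F : TopCat.Sheaf (Type u) T, Function.Bijective
    (((TopCat.Sheaf.pullbackPushforwardAdjunction (Type u)
      (TopCat.ofHom ⟨(Subtype.val : Z → T), continuous_subtype_val⟩)).unit.app F).hom.app (op ⊤)))

/-- The sheaf of locally constant boolean functions. -/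
abbrev boolSheaf (T : TopCat.{u}) : T.Sheaf (Type u) :=
  TopCat.subsheafToTypes (TopCat.continuousLocal T (TopCat.of (ULift.{u} Bool)))

/-- A constant boolean function. -/
def boolConst (U : Opens T) (b : Bool) : (boolSheaf T).obj.obj (op U) :=
  ⟨fun _ => ULift.up b, (continuous_const : Continuous fun _ : U => ULift.up b)⟩

/-- The value of a boolean function at a point. -/
def boolVal {U : Opens T} (s : (boolSheaf T).obj.obj (op U)) (x : T) (hx : x ∈ U) : Bool :=
  (s.1 ⟨x, hx⟩).down

theorem boolVal_eq_of_germ {U V : Opens T} (s : (boolSheaf T).obj.obj (op U)) (t : (boolSheaf T).obj.obj (op V))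
    (x : T) (hU : x ∈ U) (hV : x ∈ V)
    (he : (boolSheaf T).presheaf.germ U x hU s = (boolSheaf T).presheaf.germ V x hV t) :
    boolVal s x hU = boolVal t x hV := by
  obtain ⟨O, hO, i₁, i₂, h'⟩ := TopCat.Presheaf.germ_eq (boolSheaf T).presheaf x hU hV s t he
  exact congrArg (fun r : (boolSheaf T).obj.obj (op O) => boolVal r x hO) h'

include h

theorem isEmpty_of_bijective_unit (hZ : Z = ∅) : IsEmpty T := by
  refine ⟨fun x => ?_⟩
  let i : TopCat.of Z ⟶ T := TopCat.ofHom ⟨(Subtype.val : Z → T), continuous_subtype_val⟩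
  have hsub : ∀ a b : ((TopCat.Sheaf.pushforward (Type u) i).obj
      ((TopCat.Sheaf.pullback (Type u) i).obj (boolSheaf T))).obj.obj (op ⊤), a = b := fun a b =>
    TopCat.Presheaf.section_ext ((TopCat.Sheaf.pullback (Type u) i).obj (boolSheaf T)) _ a b
      fun z _ => absurd z.2 (hZ ▸ Set.notMem_empty z.1)
  have := (h (boolSheaf T)).1 (a₁ := boolConst ⊤ true) (a₂ := boolConst ⊤ false) (hsub _ _)
  exact Bool.noConfusion (congrArg (fun s : (boolSheaf T).obj.obj (op ⊤) => boolVal s x trivial) this : true = false)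

theorem exists_clopen_of_bijective_unit (C : Set Z) (hC : IsClopen C) :
    ∃ W : Set T, IsClopen W ∧ Subtype.val ⁻¹' W = C := by
  classical
  let i : TopCat.of Z ⟶ T := TopCat.ofHom ⟨(Subtype.val : Z → T), continuous_subtype_val⟩
  let adj := TopCat.Sheaf.pullbackPushforwardAdjunction (Type u) i
  let G := (TopCat.Sheaf.pushforward (Type u) i).obj ((TopCat.Sheaf.pullback (Type u) i).obj (boolSheaf T))
  let η := adj.unit.app (boolSheaf T)
  obtain ⟨O₁, hO₁, hC₁⟩ := isOpen_induced_iff.1 hC.2
  obtain ⟨O₂, hO₂, hC₂⟩ := isOpen_induced_iff.1 hC.1.isOpen_compl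
  let U : Bool → Opens T := fun b => bif b then ⟨O₁, hO₁⟩ else ⟨O₂, hO₂⟩
  let V : Bool → Opens (TopCat.of Z) := fun b => (Opens.map i).obj (U b)
  let g : ∀ b, ((TopCat.Sheaf.pullback (Type u) i).obj (boolSheaf T)).obj.obj (op (V b)) := fun b =>
    η.hom.app (op (U b)) (boolConst (U b) b)
  have hmem : ∀ (b : Bool) (z : Z), z ∈ V b ↔ (z ∈ C ↔ b = true) := by
    intro b z
    cases b
    · show z ∈ Subtype.val ⁻¹' O₂ ↔ _
      rw [hC₂]; simp
    · show z ∈ Subtype.val ⁻¹' O₁ ↔ _
      rw [hC₁]; simp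
  have hcompat : TopCat.Presheaf.IsCompatible ((TopCat.Sheaf.pullback (Type u) i).obj (boolSheaf T)).obj V g := by
    intro a b
    by_cases hab : a = b
    · subst hab; rfl
    · refine TopCat.Presheaf.section_ext ((TopCat.Sheaf.pullback (Type u) i).obj (boolSheaf T)) _ _ _
        fun z hz => absurd ?_ hab
      have := (hmem a z).1 hz.1
      have := (hmem b z).1 hz.2
      cases a <;> cases b <;> simp_all
  obtain ⟨t, ht, -⟩ := TopCat.Sheaf.existsUnique_gluing' ((TopCat.Sheaf.pullback (Type u) i).obj (boolSheaf T)) V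
    (⊤ : Opens (TopCat.of Z)) (fun b => homOfLE le_top)
    (fun z _ => Opens.mem_iSup.2 ⟨if z ∈ C then true else false, (hmem _ z).2 (by split_ifs <;> simp_all)⟩) g hcompat
  obtain ⟨f, hf⟩ := (h (boolSheaf T)).2 t
  refine ⟨{x | boolVal f x trivial = true}, ?_, ?_⟩
  · have hc : Continuous fun x : T => f.1 (⟨x, trivial⟩ : (⊤ : Opens T)) :=
      (f.2 : Continuous f.1).comp (continuous_id.subtype_mk _)
    exact (isClopen_discrete {q : ULift.{u} Bool | q.down = true}).preimage hc
  · ext z
    have key : ∀ b : Bool, z ∈ V b → boolVal f z.1 trivial = b := by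
      intro b hb
      refine (boolVal_eq_of_germ f (boolConst (U b) b) z.1 trivial hb ?_).trans rfl
      haveI : IsIso adj.counit := ShSetLib.isIso_counit Topology.IsInducing.subtypeVal
      haveI : IsIso ((TopCat.Sheaf.pullback (Type u) i).map η) :=
        haveI : IsIso (𝟙 ((TopCat.Sheaf.pullback (Type u) i).obj (boolSheaf T))) := IsIso.id _
        IsIso.of_isIso_fac_right (adj.left_triangle_components (boolSheaf T))
      haveI := ShSetLib.isIso_stalk_map i adj η z
      refine (ConcreteCategory.bijective_of_isIso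
        ((TopCat.Presheaf.stalkFunctor (Type u) z.1).map η.hom)).1 ?_
      refine (TopCat.Presheaf.stalkFunctor_map_germ_apply ⊤ z.1 trivial η.hom f).trans
        (Eq.trans ?_ (TopCat.Presheaf.stalkFunctor_map_germ_apply (U b) z.1 hb η.hom _).symm)
      let j : U b ⟶ ⊤ := homOfLE le_top
      refine (TopCat.Presheaf.germ_res_apply G.presheaf j z.1 hb (η.hom.app (op ⊤) f)).symm.trans (congrArg _ ?_)
      exact (congrArg (G.obj.map j.op) hf).trans (ht b)
    by_cases hz : z ∈ C
    · simp [key true ((hmem true z).2 (by simp [hz])), hz]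
    · simp [key false ((hmem false z).2 (by simp [hz])), hz]

end Top

variable {Z X : Scheme.{u}} [CompactSpace X] [QuasiSeparatedSpace X] (i : Z ⟶ X) [IsClosedImmersion i]
  (h : ∀ (X' : Scheme.{u}) (π : X' ⟶ X) [IsFinite π] (F : TopCat.Sheaf (Type u) X'.carrier),
    Function.Bijective
      (((TopCat.Sheaf.pullbackPushforwardAdjunction (Type u)
        (TopCat.ofHom ⟨(Subtype.val : (Set.range (pullback.snd i π)) → X'), continuous_subtype_val⟩)).unit.app F).hom.app
          (op ⊤)))

include h

theorem inter_range_nonempty (C : Set X) (hC : IsClosed C) (hne : C.Nonempty) : (C ∩ Set.range i).Nonempty := by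
  let c : Closeds X := ⟨C, hC⟩
  let ι := (Scheme.IdealSheafData.vanishingIdeal c).subschemeι
  have hι : Set.range ι = C := by
    rw [Scheme.IdealSheafData.range_subschemeι]
    exact Scheme.IdealSheafData.coe_support_vanishingIdeal c
  by_contra hn
  have hZ : Set.range (pullback.snd i ι) = (∅ : Set _) := by
    rw [Scheme.Pullback.range_snd, Set.eq_empty_iff_forall_notMem]
    exact fun t ht => hn ⟨ι t, hι.le ⟨t, rfl⟩, ht⟩
  obtain ⟨t, ht⟩ := hne
  haveI := isEmpty_of_bijective_unit (h _ ι) hZ
  obtain ⟨y, -⟩ := hι.ge ht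
  exact isEmptyElim y

theorem connNear_range : ConnNear (Set.range i) := by
  intro X' π _ x
  let Z₀ : Set X := Set.range i
  have hZ : IsClosed Z₀ := i.isClosedEmbedding.isClosed_range
  let Y : Set X' := closure {x} ∩ π ⁻¹' Z₀
  have hY : IsClosed Y := isClosed_closure.inter (hZ.preimage π.continuous)
  show _root_.IsPreconnected Y
  refine (isPreconnected_iff_subset_of_fully_disjoint_closed hY).2 fun C D hC hD hYCD hCD => ?_
  obtain ⟨T, q, g, hg, hgft, hqg, hsep⟩ := exists_separating π (hC.inter hY) (hD.inter hY)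
    (hCD.mono Set.inter_subset_left Set.inter_subset_left)
  haveI := hg; haveI := hgft
  haveI : IsIntegralHom q := by
    haveI : IsIntegralHom (q ≫ g) := hqg ▸ inferInstance
    exact MorphismProperty.of_postcomp (W := @IsIntegralHom) (W' := @IsSeparated) q g inferInstance inferInstance
  let c : Closeds T := ⟨closure {q x}, isClosed_closure⟩
  let ι := (Scheme.IdealSheafData.vanishingIdeal c).subschemeι
  have hι : Set.range ι = closure {q x} := by
    rw [Scheme.IdealSheafData.range_subschemeι]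
    exact Scheme.IdealSheafData.coe_support_vanishingIdeal c
  have hqY : q '' closure {x} = closure {q x} := by
    rw [← q.isClosedMap.closure_image_eq_of_continuous q.continuous, Set.image_singleton]
  haveI : UniversallyClosed (ι ≫ g) := by
    let q' := pullback.snd q ι
    haveI : Surjective q' := ⟨fun t => by
      obtain ⟨y, -, hy⟩ := hqY.ge (hι.le ⟨t, rfl⟩)
      obtain ⟨p, -, hp⟩ := Scheme.Pullback.exists_preimage_pullback (f := q) (g := ι) y t hy
      exact ⟨p, hp⟩⟩
    haveI : UniversallyClosed (q' ≫ ι ≫ g) := by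
      rw [← Category.assoc, ← pullback.condition, Category.assoc, hqg]
      infer_instance
    exact UniversallyClosed.of_comp_surjective q' (ι ≫ g)
  haveI : IsProper (ι ≫ g) := {}
  haveI : IsFinite (ι ≫ g) := IsFinite.iff_isProper_and_isAffineHom.2 ⟨inferInstance, inferInstance⟩
  have himg : ∀ y ∈ Y, q y ∈ closure {q x} ∧ g (q y) ∈ Z₀ := fun y hy =>
    ⟨hqY.le ⟨y, hy.1, rfl⟩, by rw [← Scheme.Hom.comp_apply, hqg]; exact hy.2⟩
  have hr : Set.range (pullback.snd i (ι ≫ g)) = (ι ≫ g) ⁻¹' Z₀ := Scheme.Pullback.range_snd _ _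
  let ρ : Set.range (pullback.snd i (ι ≫ g)) → T := fun p => ι p.1
  have hlift : ∀ p : Set.range (pullback.snd i (ι ≫ g)), ∃ y ∈ Y, q y = ρ p := fun p => by
    obtain ⟨y, hy, hqy⟩ := hqY.ge (hι.le ⟨p.1, rfl⟩)
    refine ⟨y, ⟨hy, ?_⟩, hqy⟩
    show π y ∈ Z₀
    rw [← hqg, Scheme.Hom.comp_apply, hqy, ← Scheme.Hom.comp_apply]
    exact hr.le p.2
  let C₁ := ρ ⁻¹' (q '' (C ∩ Y))
  let D₁ := ρ ⁻¹' (q '' (D ∩ Y))
  have hρ : Continuous ρ := ι.continuous.comp continuous_subtype_val
  have hC₁ : IsClosed C₁ := (q.isClosedMap _ (hC.inter hY)).preimage hρ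
  have hD₁ : IsClosed D₁ := (q.isClosedMap _ (hD.inter hY)).preimage hρ
  have hcompl : C₁ᶜ = D₁ := by
    ext p
    refine ⟨fun hp => ?_, ?_⟩
    · obtain ⟨y, hy, hqy⟩ := hlift p
      rcases hYCD hy with h | h
      · exact absurd ⟨y, ⟨h, hy⟩, hqy⟩ hp
      · exact ⟨y, ⟨h, hy⟩, hqy⟩
    · rintro ⟨y, hy, hqy⟩ ⟨y', hy', hqy'⟩
      exact hsep y' hy' y hy (hqy'.trans hqy.symm)
  obtain ⟨W, hW, hWC⟩ := exists_clopen_of_bijective_unit (h _ (ι ≫ g)) C₁
    ⟨hC₁, isClosed_compl_iff.1 (hcompl ▸ hD₁)⟩
  haveI : PreconnectedSpace (Scheme.IdealSheafData.vanishingIdeal c).subscheme := ⟨by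
    rw [← ι.isClosedEmbedding.isInducing.isPreconnected_image, Set.image_univ, hι]
    exact isPreconnected_singleton.closure⟩
  have hpt : ∀ y ∈ Y, ∃ p, ρ p = q y := fun y hy => by
    obtain ⟨t, ht⟩ := hι.ge (himg y hy).1
    refine ⟨⟨t, hr.ge ?_⟩, ht⟩
    show (ι ≫ g) t ∈ Z₀
    rw [Scheme.Hom.comp_apply, ht]; exact (himg y hy).2
  rcases isClopen_iff.1 hW with hW' | hW'
  · refine Or.inr fun y hy => ?_
    obtain ⟨p, hp⟩ := hpt y hy
    refine (hYCD hy).resolve_left fun hyC => ?_
    have : p ∈ C₁ := ⟨y, ⟨hyC, hy⟩, hp.symm⟩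
    rw [← hWC, hW'] at this
    exact this
  · refine Or.inl fun y hy => ?_
    obtain ⟨p, hp⟩ := hpt y hy
    refine (hYCD hy).resolve_right fun hyD => ?_
    have : p ∈ C₁ := by rw [← hWC, hW']; trivial
    exact (hcompl.ge (show p ∈ D₁ from ⟨y, ⟨hyD, hy⟩, hp.symm⟩)) this

/-- Gabber's criterion: etale sheaves have the same global sections on `X` and on `Z`. -/
theorem bijective_unit_top_of_finite [EtCoh.BCCont i] (F : EtCoh.Ab X) :
    Function.Bijective (((EtCoh.pullPushAdj i).unit.app F).hom.app (op (EtCoh.top X))) :=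
  bijective_top i.isClosedEmbedding.isClosed_range (fun C hC hne => inter_range_nonempty i h C hC hne)
    (connNear_range i h) (injNear_unit i F) (surjNear_unit i F)

end Groth.Agent.HensH0
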