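import Groth.Agent.HensH0.FEt
import Groth.Agent.SteinConn.FlatCount
import Groth.Agent.GeomIrred.Scheme
import Groth.Agent.FpqcDesc.Stalk
import Groth.Agent.ASp.RedSub
import Groth.Agent.ConstrNoeth.Prespectral
import Groth.Agent.WLocalLib.Strict

/-!
# Covers of proper flat families over strictly henselian rings
-/

set_option autoImplicit false
set_option linter.style.haveILetI false
set_option backward.isDefEq.respectTransparency false
set_option backward.isDefEq.respectTransparency.types false

universe u
open CategoryTheory CategoryTheory.Limits AlgebraicGeometry IsLocalRing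

noncomputable section

namespace Groth.Agent.HensH0

/-- Reduced geometric fibres give geometrically reduced morphisms. -/
theorem geometricallyReduced_of_algClosed {X S : Scheme.{u}} (f : X ⟶ S)
    (h : ∀ (Ω : Type u) [Field Ω] [IsAlgClosed Ω] (s : Spec (CommRingCat.of Ω) ⟶ S), IsReduced (pullback f s)) :
    GeometricallyReduced f := by
  rw [geometricallyReduced_iff, geometrically_iff_of_isClosedUnderIsomorphisms]
  intro K _ y
  let c := Spec.map (CommRingCat.ofHom (algebraMap K (AlgebraicClosure K)))
  haveI : Surjective c := ⟨fun z => ⟨closedPoint _, Subsingleton.elim (α := PrimeSpectrum K) _ _⟩⟩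
  haveI : Flat c := HasRingHomProperty.Spec_iff.2 (RingHom.flat_algebraMap_iff.2 inferInstance)
  let p := pullback.map f (c ≫ y) f y (𝟙 X) c (𝟙 S) (by simp) (by simp)
  have hp : IsPullback p (pullback.snd f (c ≫ y)) (pullback.snd f y) c := by
    refine IsPullback.of_right ?_ (pullback.lift_snd _ _ _) (IsPullback.of_hasPullback f y)
    rw [pullback.lift_fst, Category.comp_id]
    exact IsPullback.of_hasPullback f (c ≫ y)
  haveI : Flat p := MorphismProperty.of_isPullback hp.flip ‹Flat c›
  haveI : Surjective p := MorphismProperty.of_isPullback hp.flip ‹Surjective c›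
  haveI := h (AlgebraicClosure K) (c ≫ y)
  exact FlatDescStalk.isReduced_of_flat_surjective p

/-- If the geometric fibre over a point is connected, so is the fibre at each algebraically closed point over it. -/
theorem connectedSpace_pullback_of_geomFiber {W S : Scheme.{u}} (h : W ⟶ S) {Ω : Type u} [Field Ω] [IsAlgClosed Ω]
    (t : Spec (CommRingCat.of Ω) ⟶ S) [hc : ConnectedSpace ↥(MoreMor.geomFiber h (t (closedPoint Ω)))] :
    ConnectedSpace ↥(pullback h t) := by
  let s := t (closedPoint Ω)
  let κ : Type u := S.residueField s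
  let L : Type u := SeparableClosure κ
  let fs : h.fiber s ⟶ Spec (CommRingCat.of κ) := h.fiberToSpecResidueField s
  let sL := Spec.map (CommRingCat.ofHom (algebraMap κ L))
  haveI : ConnectedSpace ↥(pullback fs sL) := hc
  haveI := GeomIrred.geometricallyConnected_of_connectedSpace (pullback.snd fs sL)
  obtain ⟨φ, hφ⟩ : ∃ φ : S.residueField s ⟶ CommRingCat.of Ω, Spec.map φ ≫ S.fromSpecResidueField s = t :=
    ⟨_, Scheme.descResidueField_stalkClosedPointTo_fromSpecResidueField Ω S t⟩
  letI : Algebra κ Ω := φ.hom.toAlgebra
  let a : L →ₐ[κ] Ω := IsSepClosed.lift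
  let b : Spec (CommRingCat.of Ω) ⟶ Spec (CommRingCat.of L) := Spec.map (CommRingCat.ofHom a.toRingHom)
  have hb : b ≫ sL ≫ S.fromSpecResidueField s = t := by
    rw [← Category.assoc]
    show (Spec.map _ ≫ Spec.map _) ≫ _ = t
    rw [← Spec.map_comp, ← hφ]
    congr 2
    ext x
    exact a.commutes x
  haveI : ConnectedSpace ↥(pullback (pullback.snd fs sL) b) :=
    GeometricallyConnected.geometrically_connectedSpace _ _ _ (IsPullback.of_hasPullback _ _)
  let e : pullback (pullback.snd fs sL) b ≅ pullback h t :=
    pullbackLeftPullbackSndIso fs sL b ≪≫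
      (((IsPullback.of_hasPullback fs (b ≫ sL)).paste_horiz
        (IsPullback.of_hasPullback h (S.fromSpecResidueField s))).isoIsPullback _ _
          (show IsPullback (pullback.fst h t) (pullback.snd h t) h
            ((b ≫ sL) ≫ S.fromSpecResidueField s) by
            rw [Category.assoc, hb]; exact IsPullback.of_hasPullback h t))
  exact e.hom.surjective.connectedSpace e.hom.continuous

variable {A : Type u} [CommRing A] [HenselianLocalRing A] [IsSepClosed (ResidueField A)]

/-- A connected proper flat scheme with reduced geometric fibres over a strictly henselian local ring has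
connected geometric fibres. -/
theorem connectedSpace_geomFibre {W : Scheme.{u}} (h : W ⟶ Spec (CommRingCat.of A)) [IsProper h] [Flat h]
    [LocallyOfFinitePresentation h] [GeometricallyReduced h] [ConnectedSpace W]
    (Ω : Type u) [Field Ω] [IsAlgClosed Ω] (t : Spec (CommRingCat.of Ω) ⟶ Spec (CommRingCat.of A)) :
    ConnectedSpace ↥(pullback h t) := by
  haveI : HenselianRing A (maximalIdeal A) := Hensel.henselianRing_maximalIdeal_iff.2 inferInstance
  let S := Spec (CommRingCat.of A)
  let c : S := (closedPoint A : PrimeSpectrum A)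
  -- the closed fibre
  haveI : IsSepClosed (S.residueField c) := by
    let e₁ := (Scheme.Spec.residueFieldIso (CommRingCat.of A) c).commRingCatIsoToRingEquiv
    let e₂ : ResidueField A ≃+* (maximalIdeal A).ResidueField :=
      RingEquiv.ofBijective (algebraMap (A ⧸ maximalIdeal A) (maximalIdeal A).ResidueField)
        (Ideal.bijective_algebraMap_quotient_residueField _)
    exact WLocalLib.isSepClosed_of_ringEquiv (e₂.trans e₁.symm)
  haveI : ConnectedSpace ↥(h.fiber c) := by
    have hr : Set.range (h.fiberι c) = h ⁻¹' PrimeSpectrum.zeroLocus (maximalIdeal A : Set A) := by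
      rw [Scheme.Hom.range_fiberι]
      congr 1
      exact ((PrimeSpectrum.isClosed_singleton_iff_isMaximal _).2 (maximalIdeal.isMaximal A)).closure_eq.symm.trans
        (PrimeSpectrum.closure_singleton _)
    have hcl : IsClosed (Set.range (h.fiberι c)) := by
      rw [hr]; exact (PrimeSpectrum.isClosed_zeroLocus _).preimage h.continuous
    haveI : IsClosedImmersion (h.fiberι c) := IsClosedImmersion.of_isPreimmersion _ hcl
    obtain ⟨z, -, hz⟩ := nonempty_inter (maximalIdeal A) h (Set.univ : Set W) isClosed_univ Set.univ_nonempty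
    rw [range_fst_eq, ← hr] at hz
    obtain ⟨z₀, -⟩ := hz
    haveI : Nonempty ↥(h.fiber c) := ⟨z₀⟩
    refine (connectedSpace_iff_univ).2 ⟨Set.univ_nonempty, ?_⟩
    haveI : PreconnectedSpace ↥(h.fiber c) := preconnectedSpace_iff_clopen.2 fun C hC => ?_
    · exact isPreconnected_univ
    obtain ⟨V, hV, rfl⟩ := exists_clopen_lift_of_range (maximalIdeal A) h (h.fiberι c) hr C hC
    rcases isClopen_iff.1 hV with rfl | rfl <;> simp
  haveI := GeomIrred.geometricallyConnected_of_connectedSpace (k := S.residueField c) (h.fiberToSpecResidueField c)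
  haveI hgc : ConnectedSpace ↥(MoreMor.geomFiber h c) :=
    GeometricallyConnected.geometrically_connectedSpace _ _ _ (IsPullback.of_hasPullback _ _)
  have h1 : MoreMor.nGeomConnComp h c = 1 := by
    obtain ⟨x⟩ := (inferInstance : Nonempty ↥(MoreMor.geomFiber h c))
    exact ENat.card_eq_one_iff_unique.2 ⟨⟨⟨ConnectedComponents.mk x⟩, fun a => Subsingleton.elim _ _⟩⟩
  haveI : GeometricallyReduced (h.fiberToSpecResidueField c) :=
    MorphismProperty.pullback_snd _ _ ‹GeometricallyReduced h›
  obtain ⟨V, hV, hconst⟩ := SteinConn.exists_nGeomConnComp_const_flat h c inferInstance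
  obtain ⟨O, hOV, hO, hcO⟩ := mem_nhds_iff.1 hV
  let s := t (closedPoint Ω)
  have hs : MoreMor.nGeomConnComp h s = 1 := (hconst s (hOV
    ((specializes_closedPoint (R := A) s).mem_open hO hcO))).trans h1
  obtain ⟨hu⟩ := ENat.card_eq_one_iff_unique.1 hs
  haveI : PreconnectedSpace ↥(MoreMor.geomFiber h s) := preconnectedSpace_iff_connectedComponent.2 fun x => by
    refine Set.eq_univ_of_forall fun y => ?_
    exact ConnectedComponents.coe_eq_coe'.1 ((hu.uniq _).trans (hu.uniq _).symm)
  haveI : Nonempty ↥(MoreMor.geomFiber h s) := ⟨(ConnectedComponents.surjective_coe hu.default).choose⟩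
  haveI : ConnectedSpace ↥(MoreMor.geomFiber h s) := ⟨inferInstance⟩
  exact connectedSpace_pullback_of_geomFiber h t

/-- Covers of a proper flat family with connected reduced geometric fibres are seen on each geometric fibre. -/
theorem fullyFaithful_geomFibre {X : Scheme.{u}} (f : X ⟶ Spec (CommRingCat.of A)) [IsProper f] [Flat f]
    [LocallyOfFinitePresentation f]
    (hfib : ∀ (Ω : Type u) [Field Ω] [IsAlgClosed Ω] (s : Spec (CommRingCat.of Ω) ⟶ Spec (CommRingCat.of A)),
      IsReduced (pullback f s))
    (Ω : Type u) [Field Ω] [IsAlgClosed Ω] (t : Spec (CommRingCat.of Ω) ⟶ Spec (CommRingCat.of A)) :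
    (FEt.restrict (pullback.fst f t)).Full ∧ (FEt.restrict (pullback.fst f t)).Faithful := by
  haveI : HenselianRing A (maximalIdeal A) := Hensel.henselianRing_maximalIdeal_iff.2 inferInstance
  let S := Spec (CommRingCat.of A)
  let r := pullback.fst f t
  -- connected components of covers
  have key : ∀ (W : FEt.Cat X) (x : W.left), IsOpen (connectedComponent x) ∧
      _root_.IsConnected (pullback.fst W.hom r ⁻¹' connectedComponent x) := fun W x => by
    let w : W.left ⟶ X := W.hom
    haveI : IsFinite w := W.prop.1
    haveI : Etale w := W.prop.2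
    let g := w ≫ f
    haveI : IsProper g := inferInstance
    haveI : CompactSpace W.left := QuasiCompact.compactSpace_of_compactSpace g
    haveI : QuasiSeparatedSpace W.left := quasiSeparatedSpace_of_quasiSeparated g
    -- finitely many components, indexed by the closed fibre
    let c : S := (closedPoint A : PrimeSpectrum A)
    have hr : Set.range (g.fiberι c) = g ⁻¹' PrimeSpectrum.zeroLocus (maximalIdeal A : Set A) := by
      rw [Scheme.Hom.range_fiberι]
      congr 1
      exact ((PrimeSpectrum.isClosed_singleton_iff_isMaximal _).2 (maximalIdeal.isMaximal A)).closure_eq.symm.trans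
        (PrimeSpectrum.closure_singleton _)
    haveI : LocallyOfFiniteType (g.fiberToSpecResidueField c) := MorphismProperty.pullback_snd _ _ inferInstance
    haveI : IsLocallyNoetherian (g.fiber c) :=
      LocallyOfFiniteType.isLocallyNoetherian (g.fiberToSpecResidueField c)
    haveI : CompactSpace ↥(g.fiber c) :=
      QuasiCompact.compactSpace_of_compactSpace (g.fiberToSpecResidueField c)
    haveI : IsNoetherian (g.fiber c) := {}
    haveI := FEtLib.finite_connectedComponents (T := ↥(g.fiber c))
    haveI : Finite (_root_.ConnectedComponents ↥W.left) := by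
      refine Finite.of_surjective (g.fiberι c).continuous.connectedComponentsMap fun d => ?_
      obtain ⟨y, rfl⟩ := ConnectedComponents.surjective_coe d
      obtain ⟨z, hz, hzr⟩ := nonempty_inter (maximalIdeal A) g _ (isClosed_connectedComponent (x := y))
        connectedComponent_nonempty
      rw [range_fst_eq, ← hr] at hzr
      obtain ⟨q, rfl⟩ := hzr
      exact ⟨ConnectedComponents.mk q, ConnectedComponents.coe_eq_coe'.2 hz⟩
    haveI : DiscreteTopology (_root_.ConnectedComponents ↥W.left) := inferInstance
    have hC : IsClopen (connectedComponent x) := by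
      rw [← connectedComponents_preimage_singleton]
      exact (isClopen_discrete _).preimage ConnectedComponents.continuous_coe
    let U : W.left.Opens := ⟨connectedComponent x, hC.2⟩
    haveI : IsClosedImmersion U.ι := IsClosedImmersion.of_isPreimmersion _ (by rw [Scheme.Opens.range_ι]; exact hC.1)
    haveI : ConnectedSpace ↥U.toScheme := isConnected_iff_connectedSpace.1 isConnected_connectedComponent
    haveI : IsProper ((U.ι ≫ w) ≫ f) := inferInstance
    haveI : GeometricallyReduced ((U.ι ≫ w) ≫ f) := geometricallyReduced_of_algClosed _ fun K _ _ s => by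
      haveI := hfib K s
      let e := pullbackRightPullbackFstIso f s (U.ι ≫ w)
      haveI : Etale (pullback.snd (U.ι ≫ w) (pullback.fst f s)) := MorphismProperty.pullback_snd _ _ inferInstance
      haveI : IsReduced (pullback (U.ι ≫ w) (pullback.fst f s)) := ASp.isReduced_of_etale (pullback.snd _ _)
      exact isReduced_of_isOpenImmersion e.inv
    haveI := connectedSpace_geomFibre ((U.ι ≫ w) ≫ f) Ω t
    let b := pullback.fst w r
    let e : pullback U.ι b ≅ pullback ((U.ι ≫ w) ≫ f) t :=
      pullbackRightPullbackFstIso w r U.ι ≪≫ pullbackRightPullbackFstIso f t (U.ι ≫ w)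
    haveI : ConnectedSpace ↥(pullback U.ι b) := e.inv.surjective.connectedSpace e.inv.continuous
    refine ⟨hC.2, ?_⟩
    have himg : b ⁻¹' connectedComponent x = Set.range (pullback.snd U.ι b) := by
      rw [Scheme.Pullback.range_snd, Scheme.Opens.range_ι]
      rfl
    show _root_.IsConnected (b ⁻¹' connectedComponent x)
    rw [himg]
    exact isConnected_range (pullback.snd U.ι b).continuous
  have hm : FEtLib.MeetsClopens r := fun U hU ⟨y, hy⟩ => by
    obtain ⟨v, hv⟩ := (key (FEtLib.one X) y).2.nonempty
    refine ⟨pullback.snd (FEtLib.one X).hom r v, ?_⟩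
    rw [← Scheme.Hom.comp_apply, ← pullback.condition, Scheme.Hom.comp_apply]
    exact hU.connectedComponent_subset (x := y) hy hv
  refine ⟨FEtLib.full r hm fun W V hV => ?_, FEtLib.faithful r hm⟩
  let w : W.left ⟶ X := W.hom
  let b := pullback.fst w r
  let U : Set W.left := {y | b ⁻¹' connectedComponent y ⊆ V}
  have hU : ∀ y z, z ∈ connectedComponent y → (z ∈ U ↔ y ∈ U) := fun y z hz => by
    show b ⁻¹' _ ⊆ V ↔ b ⁻¹' _ ⊆ V
    rw [connectedComponent_eq hz]
  refine ⟨U, ⟨isOpen_compl_iff.1 (isOpen_iff_forall_mem_open.2 fun y hy =>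
      ⟨connectedComponent y, fun z hz hzU => hy ((hU y z hz).1 hzU), (key W y).1, mem_connectedComponent⟩),
    isOpen_iff_forall_mem_open.2 fun y hy =>
      ⟨connectedComponent y, fun z hz => (hU y z hz).2 hy, (key W y).1, mem_connectedComponent⟩⟩, ?_⟩
  ext v
  refine ⟨fun hv => hv (mem_connectedComponent : b v ∈ connectedComponent (b v)), fun hv => ?_⟩
  exact (key W (b v)).2.isPreconnected.subset_isClopen hV ⟨v, mem_connectedComponent, hv⟩

end Groth.Agent.HensH0
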