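import Groth.Agent.HensH0.Core
import Groth.Agent.EtPtsLib.RecollEquiv
import Groth.Agent.EtPtsLib.IntegralUI

/-!
# Restriction of global sections to a closed subscheme
-/

set_option autoImplicit false
set_option linter.style.haveILetI false
set_option backward.isDefEq.respectTransparency false
set_option backward.isDefEq.respectTransparency.types false

universe u
open CategoryTheory CategoryTheory.Limits AlgebraicGeometry Opposite

noncomputable section

namespace Groth.Agent.HensH0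

variable {Z X : Scheme.{u}} (i : Z ⟶ X) [IsClosedImmersion i] (F : EtCoh.Ab X)

/-- A point over the closed subscheme has a geometric point factoring through it. -/
theorem exists_geom_factor (U : X.Etale) (u : U.left) (hu : U.hom u ∈ Set.range i) :
    ∃ (Ω : Type u) (_ : Field Ω) (_ : IsSepClosed Ω) (ζ : Spec (CommRingCat.of Ω) ⟶ Z)
      (l : (Scheme.pointSmallEtale (ζ ≫ i)).fiber.obj U), EtPtsLib.liftHom _ l default = u := by
  obtain ⟨z, hz⟩ := hu
  let ζ := EtPtsLib.geomPtAlg z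
  have hd : (ζ ≫ i) default = U.hom u := by
    rw [Scheme.Hom.comp_apply, EtPtsLib.geomPtAlg_default, hz]
  obtain ⟨l, hl⟩ := Scheme.pointSmallEtaleFiberObjToPreimage_surjective (ζ ≫ i) hd U ⟨u, by simp⟩
  exact ⟨_, inferInstance, inferInstance, ζ, l, congrArg Subtype.val hl⟩

theorem bijective_stalk_unit {Ω : Type u} [Field Ω] [IsSepClosed Ω] (ζ : Spec (CommRingCat.of Ω) ⟶ Z) :
    Function.Bijective ((EtCoh.stalk (ζ ≫ i)).map ((EtCoh.pullPushAdj i).unit.app F)) :=
  haveI := EtPtsLib.isIso_stalk_unit_immersion i ζ F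
  ConcreteCategory.bijective_of_isIso ((EtCoh.stalk (ζ ≫ i)).map ((EtCoh.pullPushAdj i).unit.app F))

theorem germ_map_unit {U : X.Etale} {Ω : Type u} [Field Ω] [IsSepClosed Ω] (ξ : Spec (CommRingCat.of Ω) ⟶ X)
    (l : (Scheme.pointSmallEtale ξ).fiber.obj U) (s : EtCoh.sect F U) :
    (EtCoh.stalk ξ).map ((EtCoh.pullPushAdj i).unit.app F) (EtPtsLib.germ ξ F l s) =
      EtPtsLib.germ ξ _ l (((EtCoh.pullPushAdj i).unit.app F).hom.app (op U) s) :=
  congr($((Scheme.pointSmallEtale ξ).toPresheafFiber_naturality ((EtCoh.pullPushAdj i).unit.app F).hom U l) s)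

theorem injNear_unit : InjNear ((EtCoh.pullPushAdj i).unit.app F) (Set.range i) := fun U s t h u hu => by
  obtain ⟨Ω, _, _, ζ, l, rfl⟩ := exists_geom_factor i U u hu
  rw [← EtPtsLib.germ_eq_iff_mem_agree]
  apply (bijective_stalk_unit i F ζ).1
  refine (germ_map_unit i F _ l s).trans (Eq.trans ?_ (germ_map_unit i F _ l t).symm)
  rw [h]

theorem surjNear_unit : SurjNear ((EtCoh.pullPushAdj i).unit.app F) (Set.range i) := fun U t u hu => by
  obtain ⟨Ω, _, _, ζ, l, rfl⟩ := exists_geom_factor i U u hu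
  let η := (EtCoh.pullPushAdj i).unit.app F
  obtain ⟨a, ha⟩ := (bijective_stalk_unit i F ζ).2 (EtPtsLib.germ (ζ ≫ i) _ l t)
  obtain ⟨V, m, s, rfl⟩ := (Scheme.pointSmallEtale (ζ ≫ i)).toPresheafFiber_jointly_surjective (P := F.obj) a
  replace ha : EtPtsLib.germ (ζ ≫ i) _ m (η.hom.app (op V) s) = EtPtsLib.germ (ζ ≫ i) _ l t :=
    (germ_map_unit i F _ m s).symm.trans ha
  -- a common neighbourhood
  let n : (Scheme.pointSmallEtale (ζ ≫ i)).fiber.obj (prod2 U V) :=
    Over.homMk (pullback.lift (EtPtsLib.liftHom _ l) (EtPtsLib.liftHom _ m)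
      ((EtPtsLib.liftHom_comp _ l).trans (EtPtsLib.liftHom_comp _ m).symm)) (by
        show pullback.lift _ _ _ ≫ pullback.fst U.hom V.hom ≫ U.hom = ζ ≫ i
        rw [pullback.lift_fst_assoc]
        exact EtPtsLib.liftHom_comp _ l)
  have h1 : (Scheme.pointSmallEtale (ζ ≫ i)).fiber.map (fst2 U V) n = l :=
    Over.OverMorphism.ext (pullback.lift_fst _ _ _)
  have h2 : (Scheme.pointSmallEtale (ζ ≫ i)).fiber.map (snd2 U V) n = m :=
    Over.OverMorphism.ext (pullback.lift_snd _ _ _)
  rw [← h1, ← h2, ← EtPtsLib.germ_map, ← EtPtsLib.germ_map] at ha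
  obtain ⟨W, g, y, hy, hg⟩ := ((Scheme.pointSmallEtale (ζ ≫ i)).toPresheafFiber_eq_iff' _ n _ _).1 ha
  refine ⟨W, g ≫ fst2 U V, EtPtsLib.liftHom _ y default, F.obj.map (g ≫ snd2 U V).op s, ?_, ?_⟩
  · have hl : EtPtsLib.liftHom _ y ≫ (g ≫ fst2 U V).left = EtPtsLib.liftHom _ l := by
      rw [← h1, ← hy]
      exact (Category.assoc _ _ _).symm
    exact (Scheme.Hom.comp_apply _ _ _).symm.trans (congrArg (fun k => k default) hl)
  · refine (naturality_apply η (g ≫ snd2 U V) s).trans ?_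
    rw [op_comp, op_comp, Functor.map_comp_apply, Functor.map_comp_apply]
    exact hg

end Groth.Agent.HensH0
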